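import Groth.Prelude.Def_StCurv
import Groth.Prelude.Def_ModelsG
import Groth.Prelude.Def_FEt
import Groth.Agent.Sga4B.P1Hyper441
import Mathlib.RingTheory.Discriminant
import Mathlib.RingTheory.DedekindDomain.Basic
import Mathlib.RingTheory.Henselian
import Mathlib.AlgebraicGeometry.FunctionField

/-!
# Degeneration of a smooth curve to a singular stable curve (S16736): vocabulary and the nodes of the proof

Strategy.  `X` is a simple cover of `P^1_k` (`SimpleStmt`, Lefschetz pencils) with branch points `b_i`.  Over an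
étale neighbourhood of `τ = 1` in the `τ`-line it deforms to a simple cover with branch points `b_i τ^i` (`LiftStmt`
over henselian discrete valuation rings, `T1Stmt` over an étale `k[τ]`-algebra).  By stable reduction and glueing one
gets a stable family over a smooth connected curve `T`, whose fibre over a point lying over `τ = 0` cannot be smooth:
the branch points have pairwise distinct valuations there, so every component of the special fibre covers `P^1` with
at most three branch points, one of which is simple, hence is rational (`BadStmt`).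
-/

set_option autoImplicit false

universe u

open CategoryTheory CategoryTheory.Limits AlgebraicGeometry Polynomial IsLocalRing

namespace K760.Hurw

/-- Simple cover of the affine line over the field `K`, with branch points among the `b i`: a finite free
`K[x]`-algebra with discriminant dividing `∏ (x - b i)`. -/
structure IsSimp (K : Type u) [Field K] {r : ℕ} (b : Fin r → K) (B : Type u) [CommRing B] [Algebra K[X] B] :
    Prop where
  inj : Function.Injective b
  finite : Module.Finite K[X] B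
  free : Module.Free K[X] B
  disc : Algebra.discr K[X] (Module.Free.chooseBasis K[X] B) ∣ ∏ i, (X - C (b i))

/-- The chart `[1 : t]` of the projective line. -/
noncomputable def v0 (R : Type u) [CommRing R] : Spec (CommRingCat.of R[X]) ⟶ CohB1.ProjSpace 1 R :=
  Spec.map (CommRingCat.ofHom (Groth.Agent.Sga4B.P1Hyper.w R)) ≫ Groth.Agent.Sga5.ProjSmooth.chart 1 R 0

/-- The chart `[t : 1]` of the projective line. -/
noncomputable def v1 (R : Type u) [CommRing R] : Spec (CommRingCat.of R[X]) ⟶ CohB1.ProjSpace 1 R :=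
  Spec.map (CommRingCat.ofHom (Groth.Agent.Sga4B.P1Hyper.w R)) ≫ Groth.Agent.Sga5.ProjSmooth.chart 1 R 1

/-- The chart `Spec B` of a `P^1`-scheme over the chart `v0` is a simple cover with branch points among `b`. -/
def SimpOn (K : Type u) [Field K] {Z : Scheme.{u}} (Φ : Z ⟶ CohB1.ProjSpace 1 K) {r : ℕ} (b : Fin r → K) : Prop :=
  ∀ (B : Type u) [CommRing B] [Algebra K[X] B] (j : Spec (CommRingCat.of B) ⟶ Z),
    IsPullback j (Spec.map (CommRingCat.ofHom (algebraMap K[X] B))) Φ (v0 K) → IsSimp K b B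

/-- Finite cover of `P^1_K`, simple over the chart `v0` with branch points among the `b i`, unramified over the
point at infinity. -/
structure IsSimpMor (K : Type u) [Field K] {Z : Scheme.{u}} (Φ : Z ⟶ CohB1.ProjSpace 1 K) {r : ℕ} (b : Fin r → K) :
    Prop where
  fin : IsFinite Φ
  simp0 : SimpOn K Φ b
  inf : ∀ (B : Type u) [CommRing B] [Algebra K[X] B] (j : Spec (CommRingCat.of B) ⟶ Z),
    IsPullback j (Spec.map (CommRingCat.ofHom (algebraMap K[X] B))) Φ (v1 K) →
      IsReduced (B ⧸ Ideal.span {algebraMap K[X] B X})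

/-- (SIMPLE) a smooth proper connected curve over an algebraically closed field of characteristic zero is a simple
cover of the projective line, unramified over `0` and `∞`. -/
def SimpleStmt : Prop :=
  ∀ (k : Type u) [Field k] [IsAlgClosed k] [CharZero k] (X : Scheme.{u}) (q : X ⟶ Spec (CommRingCat.of k))
    [Smooth q] [IsProper q] [IsIntegral X], topologicalKrullDim X = 1 →
    ∃ (F : X ⟶ CohB1.ProjSpace 1 k) (r : ℕ) (b : Fin r → k), F ≫ CohB1.ProjSpace.toSpec 1 k = q ∧
      IsSimpMor k F b ∧ ∀ i, b i ≠ 0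

/-- (LIFT) simple covers lift over henselian discrete valuation rings, with prescribed branch points. -/
def LiftStmt : Prop :=
  ∀ (k : Type u) [Field k] [IsAlgClosed k] [CharZero k] (X : Scheme.{u}) (q : X ⟶ Spec (CommRingCat.of k))
    [Smooth q] [IsProper q] [IsIntegral X], topologicalKrullDim X = 1 →
    ∀ (F : X ⟶ CohB1.ProjSpace 1 k) (r : ℕ) (b : Fin r → k), F ≫ CohB1.ProjSpace.toSpec 1 k = q →
      IsSimpMor k F b →
    ∀ (A : Type u) [CommRing A] [IsDomain A] [IsDiscreteValuationRing A] [HenselianLocalRing A] [Algebra k A]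
      (ρ : A →ₐ[k] k) (β : Fin r → A), (∀ i, ρ (β i) = b i) →
    ∃ (𝒳 : Scheme.{u}) (Q : 𝒳 ⟶ Spec (CommRingCat.of A)) (i : X ⟶ 𝒳) (Φ : 𝒳 ⟶ CohB1.ProjSpace 1 A),
      IsFinite Φ ∧ Φ ≫ CohB1.ProjSpace.toSpec 1 A = Q ∧ Smooth Q ∧
      IsPullback i q Q (Spec.map (CommRingCat.ofHom ρ.toRingHom)) ∧
      ∀ (K : Type u) [Field K] [Algebra A K] [IsFractionRing A K] (B : Type u) [CommRing B] [Algebra K[X] B]
        (j : Spec (CommRingCat.of B) ⟶ 𝒳),
        IsPullback j (Spec.map (CommRingCat.ofHom (algebraMap K[X] B))) Φ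
          (Spec.map (CommRingCat.ofHom (Polynomial.mapRingHom (algebraMap A K))) ≫ v0 A) →
        IsSimp K (fun i => algebraMap A K (β i)) B

/-- (T1) the same over an étale algebra over the `τ`-line (the variable of `k[X]`), the branch points being
`b_i τ^(i+1)`; `ρ` is a point over `τ = 1`. -/
def T1Stmt : Prop :=
  ∀ (k : Type u) [Field k] [IsAlgClosed k] [CharZero k] (X : Scheme.{u}) (q : X ⟶ Spec (CommRingCat.of k))
    [Smooth q] [IsProper q] [IsIntegral X], topologicalKrullDim X = 1 →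
    ∀ (F : X ⟶ CohB1.ProjSpace 1 k) (r : ℕ) (b : Fin r → k), F ≫ CohB1.ProjSpace.toSpec 1 k = q →
      IsSimpMor k F b →
    ∃ (R : Type u) (_ : CommRing R) (_ : IsDomain R) (_ : Algebra k R) (_ : Algebra k[X] R)
      (_ : IsScalarTower k k[X] R) (_ : Algebra.Etale k[X] R) (ρ : R →ₐ[k] k)
      (𝒳 : Scheme.{u}) (Q : 𝒳 ⟶ Spec (CommRingCat.of R)) (i : X ⟶ 𝒳) (Φ : 𝒳 ⟶ CohB1.ProjSpace 1 R),
      IsFinite Φ ∧ Φ ≫ CohB1.ProjSpace.toSpec 1 R = Q ∧ Smooth Q ∧
      IsPullback i q Q (Spec.map (CommRingCat.ofHom ρ.toRingHom)) ∧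
      ∀ (K : Type u) [Field K] [Algebra R K] [IsFractionRing R K] (B : Type u) [CommRing B] [Algebra K[X] B]
        (j : Spec (CommRingCat.of B) ⟶ 𝒳),
        IsPullback j (Spec.map (CommRingCat.ofHom (algebraMap K[X] B))) Φ
          (Spec.map (CommRingCat.ofHom (Polynomial.mapRingHom (algebraMap R K))) ≫ v0 R) →
        IsSimp K (fun i => algebraMap R K (algebraMap k R (b i) * algebraMap k[X] R Polynomial.X ^ (i.1 + 1))) B

/-- (BAD) a curve over the fraction field of a discrete valuation ring containing its (algebraically closed,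
characteristic zero) residue field which is a simple cover of the line with branch points of pairwise distinct
valuations has no smooth proper model of genus at least two. -/
def BadStmt : Prop :=
  ∀ (k : Type u) [Field k] [IsAlgClosed k] [CharZero k]
    (R : Type u) [CommRing R] [IsDomain R] [IsDiscreteValuationRing R] [Algebra k R] (_ : R →ₐ[k] k)
    (Y : Scheme.{u}) (p : Y ⟶ Spec (CommRingCat.of R)) [Smooth p] [IsProper p] (g : ℕ),
    ModFun.IsCurveOfGenus g p → 2 ≤ g →
    ∀ (K : Type u) [Field K] [Algebra R K] [IsFractionRing R K]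
      (Z : Scheme.{u}) (a : Z ⟶ Y) (z : Z ⟶ Spec (CommRingCat.of K)),
      IsPullback a z p (Spec.map (CommRingCat.ofHom (algebraMap R K))) →
    ∀ (Φ : Z ⟶ CohB1.ProjSpace 1 K) [IsFinite Φ], Φ ≫ CohB1.ProjSpace.toSpec 1 K = z →
    ∀ (r : ℕ) (b : Fin r → K), SimpOn K Φ b → (∀ i, b i ≠ 0) →
      (∀ i j, i < j → ∃ c ∈ maximalIdeal R, b j = algebraMap R K c * b i) → False

/-- (BADALG) the algebraic core of `BadStmt`.  `O` is a discrete valuation ring of the function field `E` of a simple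
cover of the line with branch points of distinct valuations, with the same uniformizer as `R` and with residue field
transcendental over `k`.  Then the residue field of `O` has a coordinate `u` whose corresponding cover of the line has,
over every finite point `α ≠ α₀`, at least `degree` (if `α ≠ α₁`) or `degree - 1` (if `α = α₁`) points. -/
def BadAlgStmt : Prop :=
  ∀ (k : Type u) [Field k] [IsAlgClosed k] [CharZero k]
    (R : Type u) [CommRing R] [IsDomain R] [IsDiscreteValuationRing R] [Algebra k R] (_ : R →ₐ[k] k)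
    (K : Type u) [Field K] [Algebra R K] [IsFractionRing R K]
    (B : Type u) [CommRing B] [IsDomain B] [Algebra K[X] B] (r : ℕ) (b : Fin r → K),
    IsSimp K b B → (∀ i, b i ≠ 0) →
    (∀ i j, i < j → ∃ c ∈ maximalIdeal R, b j = algebraMap R K c * b i) →
    ∀ (O : Type u) [CommRing O] [IsDomain O] [IsDiscreteValuationRing O] [Algebra k O] [Algebra R O]
      [IsScalarTower k R O],
      (maximalIdeal R).map (algebraMap R O) = maximalIdeal O →
    ∀ (E : Type u) [Field E] [Algebra B E] [IsFractionRing B E] [Algebra O E] [IsFractionRing O E],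
      (∀ a : R, algebraMap O E (algebraMap R O a) =
        algebraMap B E (algebraMap K[X] B (Polynomial.C (algebraMap R K a)))) →
      (∃ y : ResidueField O, Transcendental k y) →
    ∃ (u : ResidueField O) (α₀ α₁ : k), Transcendental k u ∧
      ∀ (M : Type u) [CommRing M] [IsDomain M] [IsIntegrallyClosed M] [Algebra k M] [Algebra k[X] M]
        [IsScalarTower k k[X] M] [Algebra M (ResidueField O)] [IsFractionRing M (ResidueField O)]
        [IsScalarTower k M (ResidueField O)], Module.Finite k[X] M →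
        algebraMap M (ResidueField O) (algebraMap k[X] M Polynomial.X) = u →
        ∀ α : k, α ≠ α₀ →
          Module.finrank k (M ⧸ Ideal.span {algebraMap k[X] M (Polynomial.X - Polynomial.C α)}) ≤
            Module.finrank k (M ⧸ (Ideal.span {algebraMap k[X] M (Polynomial.X - Polynomial.C α)}).radical) +
              (open Classical in if α = α₁ then 1 else 0)

/-- (DISC) the discriminant of a Dedekind cover of the line with at most one double point in each fibre is
squarefree. -/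
def DiscStmt : Prop :=
  ∀ (k : Type u) [Field k] [IsAlgClosed k] [CharZero k] (C : Type u) [CommRing C] [IsDomain C]
    [IsIntegrallyClosed C] [Algebra k C] [Algebra k[X] C] [IsScalarTower k k[X] C] [Module.Finite k[X] C]
    [Module.Free k[X] C],
    (∀ c : k, Module.finrank k (C ⧸ Ideal.span {algebraMap k[X] C (Polynomial.X - Polynomial.C c)}) ≤
      Module.finrank k (C ⧸ (Ideal.span {algebraMap k[X] C (Polynomial.X - Polynomial.C c)}).radical) + 1) →
    Squarefree (Algebra.discr k[X] (Module.Free.chooseBasis k[X] C))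

/-- (L3) lifting a finite étale cover with an involution from the closed fibre. -/
def InvolLiftStmt : Prop :=
  ∀ (A : Type u) [CommRing A] [HenselianLocalRing A] {P : Scheme.{u}} (q : P ⟶ Spec (CommRingCat.of A))
    [IsProper q] (σ : P ⟶ P), σ ≫ σ = 𝟙 P → σ ≫ q = q →
    ∀ {P₀ : Scheme.{u}} (j : P₀ ⟶ P) (q₀ : P₀ ⟶ Spec (CommRingCat.of (ResidueField A))),
      IsPullback j q₀ q (Spec.map (CommRingCat.ofHom (residue A))) →
    ∀ (σ₀ : P₀ ⟶ P₀), σ₀ ≫ σ₀ = 𝟙 P₀ → σ₀ ≫ j = j ≫ σ → σ₀ ≫ q₀ = q₀ →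
    ∀ {W₀ : Scheme.{u}} (p₀ : W₀ ⟶ P₀) [IsFinite p₀] [Etale p₀] (s₀ : W₀ ⟶ W₀), s₀ ≫ s₀ = 𝟙 W₀ →
      s₀ ≫ p₀ = p₀ ≫ σ₀ →
    ∃ (W : Scheme.{u}) (p : W ⟶ P) (s : W ⟶ W) (i : W₀ ⟶ W), IsFinite p ∧ Etale p ∧ s ≫ s = 𝟙 W ∧
      s ≫ p = p ≫ σ ∧ IsPullback i p₀ p j ∧ s₀ ≫ i = i ≫ s

/-- The involution `y ↦ -y` of `A[x][y]/(y² - f)`. -/
noncomputable def neg {A : Type u} [CommRing A] (f : A[X]) :
    AdjoinRoot (X ^ 2 - C f : A[X][X]) →+* AdjoinRoot (X ^ 2 - C f : A[X][X]) :=
  AdjoinRoot.lift (AdjoinRoot.of _) (-AdjoinRoot.root _) (by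
    have h := AdjoinRoot.eval₂_root (X ^ 2 - C f : A[X][X])
    simp only [eval₂_sub, eval₂_pow, eval₂_X, eval₂_C] at h ⊢
    rw [neg_sq]
    exact h)

/-- `π : P ⟶ P^1_A`, with its involution `σ`, is the double cover `y² = f(x)`, in the two standard charts. -/
structure IsDouble {A : Type u} [CommRing A] (f : A[X]) {P : Scheme.{u}} (π : P ⟶ CohB1.ProjSpace 1 A)
    (σ : P ⟶ P) : Prop where
  fin : IsFinite π
  invol : σ ≫ σ = 𝟙 P
  over : σ ≫ π = π
  chart0 : ∃ j : Spec (CommRingCat.of (AdjoinRoot (X ^ 2 - C f : A[X][X]))) ⟶ P,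
    IsPullback j (Spec.map (CommRingCat.ofHom (AdjoinRoot.of (X ^ 2 - C f : A[X][X])))) π (v0 A) ∧
      j ≫ σ = Spec.map (CommRingCat.ofHom (neg f)) ≫ j
  chart1 : ∃ j : Spec (CommRingCat.of (AdjoinRoot (X ^ 2 - C f.reverse : A[X][X]))) ⟶ P,
    IsPullback j (Spec.map (CommRingCat.ofHom (AdjoinRoot.of (X ^ 2 - C f.reverse : A[X][X])))) π (v1 A) ∧
      j ≫ σ = Spec.map (CommRingCat.ofHom (neg f.reverse)) ≫ j

/-- (DBL) existence of the double cover `y² = f(x)` of the projective line. -/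
def DoubleStmt : Prop :=
  ∀ (A : Type u) [CommRing A] (f : A[X]) (m : ℕ), f.Monic → f.natDegree = 2 * m →
    ∃ (P : Scheme.{u}) (π : P ⟶ CohB1.ProjSpace 1 A) (σ : P ⟶ P), IsDouble f π σ

/-- (DBLBC) base change of the double cover. -/
def DoubleBCStmt : Prop :=
  ∀ (A : Type u) [CommRing A] (f : A[X]), f.Monic → ∀ {P : Scheme.{u}} (π : P ⟶ CohB1.ProjSpace 1 A) (σ : P ⟶ P),
    IsDouble f π σ → ∀ (A' : Type u) [CommRing A'] [Nontrivial A'] (φ : A →+* A')
    {P' : Scheme.{u}} (j : P' ⟶ P) (q' : P' ⟶ Spec (CommRingCat.of A')),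
    IsPullback j q' (π ≫ CohB1.ProjSpace.toSpec 1 A) (Spec.map (CommRingCat.ofHom φ)) →
    ∃ (π' : P' ⟶ CohB1.ProjSpace 1 A') (σ' : P' ⟶ P'), IsDouble (f.map φ) π' σ' ∧
      π' ≫ CohB1.ProjSpace.toSpec 1 A' = q' ∧ σ' ≫ j = j ≫ σ ∧
      ∀ (n : CohB1.ProjSpace 1 A' ⟶ CohB1.ProjSpace 1 A),
        v0 A' ≫ n = Spec.map (CommRingCat.ofHom (Polynomial.mapRingHom φ)) ≫ v0 A →
        v1 A' ≫ n = Spec.map (CommRingCat.ofHom (Polynomial.mapRingHom φ)) ≫ v1 A → π' ≫ n = j ≫ π

/-- `g : W ⟶ X` is the quotient by the involution `s`. -/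
structure IsInvQuot {W X : Scheme.{u}} (s : W ⟶ W) (g : W ⟶ X) : Prop where
  invol : s ≫ s = 𝟙 W
  over : s ≫ g = g
  aff : IsAffineHom g
  inj : ∀ U : X.Opens, Function.Injective (g.app U).hom
  range_iff : ∀ (U : X.Opens) (t : Γ(W, g ⁻¹ᵁ U)),
    t ∈ Set.range (g.app U).hom ↔
      (s.appLE (g ⁻¹ᵁ U) (g ⁻¹ᵁ U) (by rw [← Scheme.Hom.comp_preimage, over])).hom t = t

/-- (W0) a simple cover of `P^1_k` becomes étale, after normalization, over the double cover `y² = f`, where the
squarefree `f` vanishes at all branch points (and somewhere else). -/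
def W0Stmt : Prop :=
  ∀ (k : Type u) [Field k] [IsAlgClosed k] [CharZero k] (X : Scheme.{u}) (q : X ⟶ Spec (CommRingCat.of k))
    [Smooth q] [IsProper q] [IsIntegral X], topologicalKrullDim X = 1 →
    ∀ (F : X ⟶ CohB1.ProjSpace 1 k) (r : ℕ) (b : Fin r → k), F ≫ CohB1.ProjSpace.toSpec 1 k = q →
      IsSimpMor k F b →
    ∀ (f : k[X]) (m : ℕ), f.Monic → f.natDegree = 2 * m → Squarefree f → (∀ i, f.IsRoot (b i)) →
      (∃ c : k, f.IsRoot c ∧ ∀ i, c ≠ b i) →
    ∀ (P₀ : Scheme.{u}) (π₀ : P₀ ⟶ CohB1.ProjSpace 1 k) (σ₀ : P₀ ⟶ P₀), IsDouble f π₀ σ₀ →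
    ∃ (W₀ : Scheme.{u}) (p₀ : W₀ ⟶ P₀) (s₀ : W₀ ⟶ W₀) (g₀ : W₀ ⟶ X), IsFinite p₀ ∧ Etale p₀ ∧
      IsInvQuot s₀ g₀ ∧ s₀ ≫ p₀ = p₀ ≫ σ₀ ∧ p₀ ≫ π₀ = g₀ ≫ F

/-- (QUOT) quotient by an involution of a finite flat cover of a proper scheme over a discrete valuation ring, and
its closed fibre. -/
def QuotStmt : Prop :=
  ∀ (A : Type u) [CommRing A] [IsDomain A] [IsDiscreteValuationRing A], IsUnit (2 : A) →
    ∀ {V P : Scheme.{u}} (t : V ⟶ Spec (CommRingCat.of A)) [IsProper t] (w : P ⟶ V) [IsFinite w]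
      [Flat (w ≫ t)] (s : P ⟶ P), s ≫ s = 𝟙 P → s ≫ w = w →
    ∀ (k : Type u) [Field k] (ρ : A →+* k), Function.Surjective ρ →
    ∀ {V₀ P₀ X : Scheme.{u}} (t₀ : V₀ ⟶ Spec (CommRingCat.of k)) (n : V₀ ⟶ V),
      IsPullback n t₀ t (Spec.map (CommRingCat.ofHom ρ)) →
    ∀ (i : P₀ ⟶ P) (w₀ : P₀ ⟶ V₀), IsPullback i w₀ w n → ∀ (s₀ : P₀ ⟶ P₀), s₀ ≫ i = i ≫ s →
    ∀ (g₀ : P₀ ⟶ X) (F : X ⟶ V₀), g₀ ≫ F = w₀ → IsInvQuot s₀ g₀ → Smooth (F ≫ t₀) →
    ∃ (𝒳 : Scheme.{u}) (g : P ⟶ 𝒳) (Φ : 𝒳 ⟶ V) (ι : X ⟶ 𝒳), IsInvQuot s g ∧ g ≫ Φ = w ∧ IsFinite Φ ∧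
      Smooth (Φ ≫ t) ∧ i ≫ g = g₀ ≫ ι ∧ IsPullback ι F Φ n

/-- (GEN) a finite flat `A[x]`-algebra, étale off `∏ (x - γ_j)`, whose special fibre is simple with branch points
`β_i mod m`, has simple generic fibre with branch points `β_i`. -/
def GenStmt : Prop :=
  ∀ (k : Type u) [Field k] (A : Type u) [CommRing A] [IsDomain A] [IsDiscreteValuationRing A]
    (ρ : A →+* k), Function.Surjective ρ →
    ∀ (C : Type u) [CommRing C] [Algebra A[X] C] [Module.Finite A[X] C] [Module.Flat A[X] C]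
      (C₀ : Type u) [CommRing C₀] [Algebra k[X] C₀] (ϖ : C →+* C₀), Function.Surjective ϖ →
      (∀ a : A[X], ϖ (algebraMap A[X] C a) = algebraMap k[X] C₀ (a.map ρ)) →
      RingHom.ker ϖ = (RingHom.ker (Polynomial.mapRingHom ρ)).map (algebraMap A[X] C) →
    ∀ (r n : ℕ) (β : Fin r → A) (γ : Fin n → A), Function.Injective (fun j => ρ (γ j)) →
      (∀ i, ∃ j, γ j = β i) → IsSimp k (fun i => ρ (β i)) C₀ →
      Algebra.Etale A[X] (Localization.Away
        (algebraMap A[X] C (∏ j, (Polynomial.X - Polynomial.C (γ j))))) →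
    ∀ (K : Type u) [Field K] [Algebra A K] [IsFractionRing A K] (B : Type u) [CommRing B] [Algebra K[X] B]
      (θ : C →+* B),
      IsPushout (CommRingCat.ofHom (Polynomial.mapRingHom (algebraMap A K)))
        (CommRingCat.ofHom (algebraMap A[X] C)) (CommRingCat.ofHom (algebraMap K[X] B)) (CommRingCat.ofHom θ) →
      IsSimp K (fun i => algebraMap A K (β i)) B

/-- (P1BC) base change of the projective line, compatible with the standard charts. -/
def P1BCStmt : Prop :=
  ∀ (A A' : Type u) [CommRing A] [CommRing A'] (φ : A →+* A'),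
    ∃ n : CohB1.ProjSpace 1 A' ⟶ CohB1.ProjSpace 1 A,
      IsPullback n (CohB1.ProjSpace.toSpec 1 A') (CohB1.ProjSpace.toSpec 1 A) (Spec.map (CommRingCat.ofHom φ)) ∧
      IsPullback (Spec.map (CommRingCat.ofHom (Polynomial.mapRingHom φ))) (v0 A') (v0 A) n ∧
      IsPullback (Spec.map (CommRingCat.ofHom (Polynomial.mapRingHom φ))) (v1 A') (v1 A) n

/-- (FAM) a smooth proper morphism to the spectrum of a Noetherian domain one of whose geometric fibres is a curve of
genus `g` is a family of curves of genus `g`. -/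
def FamStmt : Prop :=
  ∀ (R : Type u) [CommRing R] [IsDomain R] [IsNoetherianRing R] (k : Type u) [Field k] [IsAlgClosed k]
    (ρ : R →+* k) (𝒳 : Scheme.{u}) (Q : 𝒳 ⟶ Spec (CommRingCat.of R)) [Smooth Q] [IsProper Q]
    (X : Scheme.{u}) (q : X ⟶ Spec (CommRingCat.of k)) (i : X ⟶ 𝒳),
    IsPullback i q Q (Spec.map (CommRingCat.ofHom ρ)) → ∀ (g : ℕ), ModFun.IsCurveOfGenus g q →
    ModFun.IsCurveOfGenus g Q

/-- The statement of S16748 (stable reduction), as a hypothesis. -/
def StableRedStmt : Prop :=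
  ∀ (R : Type u) [CommRing R] [IsDomain R] [IsDiscreteValuationRing R]
    (C : Scheme.{u}) (f : C ⟶ Spec (CommRingCat.of (FractionRing R)))
    (_ : Curve.IsSmoothProperCurve (FractionRing R) C f) (_ : IsIso f.appTop)
    (_ : 2 ≤ Models.curveGenus (FractionRing R) C f),
    ∃ (R' : Type u) (_ : CommRing R') (_ : IsDomain R') (_ : IsDiscreteValuationRing R')
      (φ : R →+* R') (ψ : FractionRing R →+* FractionRing R'),
      Models.IsDVRExtension R φ ∧
      ψ.comp (algebraMap R (FractionRing R)) = (algebraMap R' (FractionRing R')).comp φ ∧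
      Models.IsFiniteSeparable ψ ∧
      ∃ (Y : Scheme.{u}) (q : Y ⟶ Spec (CommRingCat.of R')),
        Models.IsModel R' Y q (pullback f (Spec.map (CommRingCat.ofHom ψ)))
          (pullback.snd f (Spec.map (CommRingCat.ofHom ψ))) ∧
        CurvSt.IsStableFam q (Fin.elim0 : Fin 0 → (Spec (CommRingCat.of R') ⟶ Y)) (fun i => i.elim0)
          (Models.curveGenus (FractionRing R) C f)

/-- (ASM) assembly of the family over a smooth connected curve `T`. -/
def AsmStmt : Prop :=
  StableRedStmt.{u} →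
  ∀ (k : Type u) [Field k] [IsAlgClosed k] [CharZero k]
    (R : Type u) [CommRing R] [IsDomain R] [Algebra k R] [Algebra k[X] R] [IsScalarTower k k[X] R]
    [Algebra.Etale k[X] R] (ρ : R →ₐ[k] k)
    (𝒳 : Scheme.{u}) (Q : 𝒳 ⟶ Spec (CommRingCat.of R)) (g : ℕ), ModFun.IsCurveOfGenus g Q → 2 ≤ g →
    ∀ (X : Scheme.{u}) (q : X ⟶ Spec (CommRingCat.of k)) (i : X ⟶ 𝒳),
      IsPullback i q Q (Spec.map (CommRingCat.ofHom ρ.toRingHom)) →
    (∀ (R' : Type u) [CommRing R'] [IsDomain R'] [IsDiscreteValuationRing R'] [Algebra k R'] (_ : R' →ₐ[k] k)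
        (φ : R →+* FractionRing R') (_ : Function.Injective φ)
        (_ : ∀ c : k, φ (algebraMap k R c) = algebraMap R' (FractionRing R') (algebraMap k R' c))
        (_ : ∃ t ∈ maximalIdeal R', φ (algebraMap k[X] R Polynomial.X) = algebraMap R' (FractionRing R') t)
        (Y : Scheme.{u}) (p : Y ⟶ Spec (CommRingCat.of R')) [Smooth p] [IsProper p]
        (_ : ModFun.IsCurveOfGenus g p)
        (Z : Scheme.{u}) (a : Z ⟶ Y) (c : Z ⟶ 𝒳) (z : Z ⟶ Spec (CommRingCat.of (FractionRing R'))),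
        IsPullback a z p (Spec.map (CommRingCat.ofHom (algebraMap R' (FractionRing R')))) →
        IsPullback c z Q (Spec.map (CommRingCat.ofHom φ)) → False) →
    ∃ (T : Scheme.{u}) (p : T ⟶ Spec (CommRingCat.of k)) (s t : Spec (CommRingCat.of k) ⟶ T)
      (C : Scheme.{u}) (f : C ⟶ T) (i : X ⟶ C),
      Smooth p ∧ ConnectedSpace T ∧ topologicalKrullDim T = 1 ∧ s ≫ p = 𝟙 _ ∧ t ≫ p = 𝟙 _ ∧
      CurvSt.IsStableFam f (fun j : Fin 0 => j.elim0) (fun j : Fin 0 => j.elim0) g ∧
      IsPullback i q f s ∧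
      ∀ (Y : Scheme.{u}) (j : Y ⟶ C) (r : Y ⟶ Spec (CommRingCat.of k)), IsPullback j r f t → ¬ Smooth r

end K760.Hurw
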