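import Groth.Agent.CurvSt.K760.Iface2
import Mathlib.RingTheory.DedekindDomain.IntegralClosure
import Mathlib.RingTheory.Algebraic.Integral
import Mathlib.RingTheory.Localization.NormTrace

set_option autoImplicit false

universe u

open Module
open scoped nonZeroDivisors Matrix

namespace K760.QuotBasis

variable {A N V M : Type*} [CommRing A] [CommRing N] [Algebra A N] [CommRing V] [CommRing M] [Algebra V M]
  (φ : A →+* V) (ψ : N →+* M) {ι : Type*} [Fintype ι]

omit [Fintype ι] in
theorem repr_mem (I : Ideal A) (e : Basis ι A N) {x : N} (hx : x ∈ I.map (algebraMap A N)) (i : ι) :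
    e.repr x i ∈ I := by
  have h : x ∈ (I • (⊤ : Submodule A N)) := by
    rw [Ideal.smul_top_eq_map]
    exact hx
  refine Submodule.smul_induction_on h (fun a ha n _ => ?_) fun x y hx hy => ?_
  · rw [map_smul, Finsupp.smul_apply, smul_eq_mul]
    exact I.mul_mem_right _ ha
  · rw [map_add, Finsupp.add_apply]
    exact I.add_mem hx hy

/-- A basis of `N` over `A` gives a basis of `M = N/IN` over `V = A/I`. -/
theorem exists_basis (hφ : Function.Surjective φ) (hψ : Function.Surjective ψ)
    (hc : ∀ a, ψ (algebraMap A N a) = algebraMap V M (φ a))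
    (hk : RingHom.ker ψ = (RingHom.ker φ).map (algebraMap A N)) (e : Basis ι A N) :
    ∃ e' : Basis ι V M, (∀ i, e' i = ψ (e i)) ∧ ∀ (x : N) (i : ι), e'.repr (ψ x) i = φ (e.repr x i) := by
  have key : ∀ x : N, ψ x = ∑ i, φ (e.repr x i) • ψ (e i) := by
    intro x
    conv_lhs => rw [← e.sum_repr x]
    rw [map_sum]
    refine Finset.sum_congr rfl fun i _ => ?_
    rw [Algebra.smul_def, map_mul, hc, Algebra.smul_def]
  have hli : LinearIndependent V (fun i => ψ (e i)) := by
    rw [Fintype.linearIndependent_iff]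
    intro g hg i
    choose a ha using fun i => hφ (g i)
    have h1 : ψ (∑ i, a i • e i) = 0 := by
      rw [map_sum, ← hg]
      refine Finset.sum_congr rfl fun i _ => ?_
      rw [Algebra.smul_def, map_mul, hc, ha, Algebra.smul_def]
    have h2 : (∑ i, a i • e i) ∈ RingHom.ker ψ := h1
    rw [hk] at h2
    have h3 := repr_mem _ e h2 i
    rw [Basis.repr_sum_self] at h3
    rw [← ha i]
    exact h3
  have hsp : ⊤ ≤ Submodule.span V (Set.range (fun i => ψ (e i))) := by
    intro y _
    obtain ⟨x, rfl⟩ := hψ y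
    rw [key x]
    exact Submodule.sum_mem _ fun i _ => Submodule.smul_mem _ _ (Submodule.subset_span ⟨i, rfl⟩)
  refine ⟨Basis.mk hli hsp, fun i => Basis.mk_apply _ _ i, fun x i => ?_⟩
  have h4 : ψ x = ∑ i, φ (e.repr x i) • (Basis.mk hli hsp) i := by
    rw [key x]
    exact Finset.sum_congr rfl fun i _ => by rw [Basis.mk_apply]
  rw [h4, Basis.repr_sum_self]

/-- Compatibility of traces. -/
theorem trace_eq [DecidableEq ι] (e : Basis ι A N) (e' : Basis ι V M) (he : ∀ i, e' i = ψ (e i))
    (hr : ∀ (x : N) (i : ι), e'.repr (ψ x) i = φ (e.repr x i)) (x : N) :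
    Algebra.trace V M (ψ x) = φ (Algebra.trace A N x) := by
  rw [Algebra.trace_eq_matrix_trace e', Algebra.trace_eq_matrix_trace e, Matrix.trace, Matrix.trace, map_sum]
  refine Finset.sum_congr rfl fun i _ => ?_
  simp only [Matrix.diag_apply, Algebra.leftMulMatrix_eq_repr_mul]
  rw [he, ← map_mul, hr]

theorem discr_eq [DecidableEq ι] (e : Basis ι A N) (e' : Basis ι V M) (he : ∀ i, e' i = ψ (e i))
    (hr : ∀ (x : N) (i : ι), e'.repr (ψ x) i = φ (e.repr x i)) :
    Algebra.discr V e' = φ (Algebra.discr A e) := by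
  rw [Algebra.discr_def, Algebra.discr_def, RingHom.map_det]
  congr 1
  ext i j
  rw [RingHom.mapMatrix_apply, Matrix.map_apply, Algebra.traceMatrix_apply, Algebra.traceMatrix_apply,
    Algebra.traceForm_apply, Algebra.traceForm_apply, he, he, ← map_mul, trace_eq φ ψ e e' he hr]

end K760.QuotBasis
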