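import Groth.Agent.CurvSt.K760.SimpBasic
import Groth.Agent.CurvSt.K760.QuotBasis
import Mathlib.RingTheory.Algebraic.Integral
import Mathlib.FieldTheory.IntermediateField.Adjoin.Basic

/-!
# The algebraic core `BadAlgStmt` from its nodes
-/

set_option autoImplicit false
set_option linter.style.haveILetI false

universe u

open Polynomial Module IsLocalRing
open scoped nonZeroDivisors

namespace K760.BadAlg

open Hurw

section Reparam

variable {K : Type u} [Field K] {r : ℕ} {b : Fin r → K} (a c : K) (hc : c ≠ 0)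

include hc in
theorem comp_comp (p : K[X]) : (p.comp (C c * X + C a)).comp (C c⁻¹ * (X - C a)) = p := by
  rw [comp_assoc]
  have : (C c * X + C a : K[X]).comp (C c⁻¹ * (X - C a)) = X := by
    simp only [add_comp, mul_comp, C_comp, X_comp]
    rw [← mul_assoc, ← C_mul, mul_inv_cancel₀ hc, C_1, one_mul, sub_add_cancel]
  rw [this, comp_X]

include hc in
theorem comp_comp' (p : K[X]) : (p.comp (C c⁻¹ * (X - C a))).comp (C c * X + C a) = p := by
  rw [comp_assoc]
  have : (C c⁻¹ * (X - C a) : K[X]).comp (C c * X + C a) = X := by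
    simp only [sub_comp, mul_comp, C_comp, X_comp]
    rw [add_sub_cancel_right, ← mul_assoc, ← C_mul, inv_mul_cancel₀ hc, C_1, one_mul]
  rw [this, comp_X]

include hc in
theorem isSimp_of_equiv {B B' : Type u} [CommRing B] [CommRing B'] [Algebra K[X] B] [Algebra K[X] B'] (i : B ≃+* B')
    (hi : ∀ p : K[X], i (algebraMap K[X] B p) = algebraMap K[X] B' (p.comp (C c * X + C a)))
    (hB : IsSimp K b B) : IsSimp K (fun j => (b j - a) / c) B' := by
  classical
  have := hB.finite
  have := hB.free
  let σ : K[X] →+* K[X] := compRingHom (C c * X + C a)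
  have hσ : Function.Surjective σ := fun p => ⟨p.comp (C c⁻¹ * (X - C a)), comp_comp' a c hc p⟩
  have hσi : Function.Injective σ := fun p q h => by
    rw [← comp_comp a c hc p, ← comp_comp a c hc q]
    exact congrArg (fun z : K[X] => z.comp (C c⁻¹ * (X - C a))) h
  let e := Module.Free.chooseBasis K[X] B
  obtain ⟨e', he', hr⟩ := QuotBasis.exists_basis σ (i : B →+* B') hσ i.surjective hi
    (by
      rw [(RingHom.injective_iff_ker_eq_bot σ).1 hσi, Ideal.map_bot]
      exact (RingHom.injective_iff_ker_eq_bot (i : B →+* B')).1 i.injective) e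
  refine IsSimp.of_basis ?_ e' ?_
  · intro j l h
    have h' : (b j - a) / c = (b l - a) / c := h
    exact hB.inj (sub_left_injective ((div_left_inj' hc).1 h'))
  · rw [QuotBasis.discr_eq σ (i : B →+* B') e e' he' hr]
    refine (map_dvd σ hB.disc).trans ?_
    rw [map_prod]
    have h1 : ∀ j, σ (X - C (b j)) = C c * (X - C ((b j - a) / c)) := by
      intro j
      change (X - C (b j) : K[X]).comp _ = _
      rw [sub_comp, X_comp, C_comp, mul_sub, ← C_mul, mul_div_cancel₀ _ hc, C_sub]
      ring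
    rw [Finset.prod_congr rfl fun j _ => h1 j, Finset.prod_mul_distrib, Finset.prod_const]
    have h2 : IsUnit ((C c : K[X]) ^ (Finset.univ : Finset (Fin r)).card) :=
      ((isUnit_C).2 (isUnit_iff_ne_zero.2 hc)).pow _
    exact (h2.mul_left_dvd).2 dvd_rfl

include hc in
/-- Affine change of the coordinate. -/
theorem reparam {B : Type u} [CommRing B] [IsDomain B] [Algebra K[X] B] (hB : IsSimp K b B)
    (E : Type u) [Field E] [Algebra B E] [IsFractionRing B E] :
    ∃ (B' : Type u) (_ : CommRing B') (_ : IsDomain B') (_ : Algebra K[X] B') (_ : Algebra B' E)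
      (_ : IsFractionRing B' E),
      (∀ p : K[X], algebraMap B' E (algebraMap K[X] B' p) =
        algebraMap B E (algebraMap K[X] B (p.comp (C c⁻¹ * (X - C a))))) ∧
      IsSimp K (fun j => (b j - a) / c) B' := by
  refine ⟨B, inferInstance, inferInstance,
    ((algebraMap K[X] B).comp (compRingHom (C c⁻¹ * (X - C a)))).toAlgebra, inferInstance, inferInstance,
    fun p => rfl, ?_⟩
  refine @isSimp_of_equiv K _ r b a c hc B B _ _ _
    (((algebraMap K[X] B).comp (compRingHom (C c⁻¹ * (X - C a)))).toAlgebra) (RingEquiv.refl B)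
    (fun p => ?_) hB
  change algebraMap K[X] B p = algebraMap K[X] B ((p.comp (C c * X + C a)).comp (C c⁻¹ * (X - C a)))
  rw [comp_comp a c hc]

end Reparam

section Comb

variable {k : Type u} [Field k] {R : Type u} [CommRing R] [IsDomain R] [IsDiscreteValuationRing R]
  {K : Type u} [Field K] [Algebra R K] [IsFractionRing R K]
  {R' : Type u} [CommRing R'] [IsDomain R'] [IsDiscreteValuationRing R'] (ρ' : R' →+* k) (φ : R →+* R')
  [IsLocalHom φ] {K' : Type u} [Field K'] [Algebra R' K'] [IsFractionRing R' K'] (ψ : K →+* K')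
  (hψ : ∀ a : R, ψ (algebraMap R K a) = algebraMap R' K' (φ a))

include hψ in
omit [IsDomain R'] [IsDiscreteValuationRing R'] in
/-- If `ψ x` is integral then so is `x`. -/
theorem exists_of_psi (x : K) (d : R') (hd : algebraMap R' K' d = ψ x) : ∃ e : R, algebraMap R K e = x := by
  rcases ValuationRing.isInteger_or_isInteger R x with ⟨e, he⟩ | ⟨e, he⟩
  · exact ⟨e, he⟩
  · rcases eq_or_ne x 0 with rfl | hx
    · exact ⟨0, map_zero _⟩
    have h1 : algebraMap R' K' (d * φ e) = 1 := by
      rw [map_mul, hd, ← hψ, he, ← map_mul, mul_inv_cancel₀ hx, map_one]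
    have h2 : d * φ e = 1 := IsFractionRing.injective R' K' (by rw [h1, map_one])
    have h3 : IsUnit (φ e) := IsUnit.of_mul_eq_one d (by rw [mul_comm, h2])
    obtain ⟨e', he'⟩ := (isUnit_of_map_unit φ e h3).exists_left_inv
    refine ⟨e', ?_⟩
    have h4 : algebraMap R K e' * x⁻¹ = 1 := by rw [← he, ← map_mul, he', map_one]
    rw [← mul_one (algebraMap R K e'), ← inv_mul_cancel₀ hx, ← mul_assoc, h4, one_mul]

include hψ in
/-- The combinatorics of the branch points. -/
theorem comb (hρ' : ∀ x ∈ maximalIdeal R', ρ' x = 0) {r : ℕ} {b : Fin r → K}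
    (hval : ∀ i j, i < j → ∃ c ∈ maximalIdeal R, b j = algebraMap R K c * b i) (a c : K) (hc : c ≠ 0) :
    ∃ α₀ α₁ : k, ∀ α : k, α ≠ α₀ →
      Nat.card {i // ∃ d : R', algebraMap R' K' d = ψ ((b i - a) / c) ∧ ρ' d = α} ≤
        (open Classical in if α = α₁ then 1 else 0) := by
  classical
  let S : Fin r → Prop := fun i => ∃ d ∈ maximalIdeal R, b i = algebraMap R K d * c
  have hA : ∀ i j, S i → S j → ∀ d d' : R', algebraMap R' K' d = ψ ((b i - a) / c) →
      algebraMap R' K' d' = ψ ((b j - a) / c) → ρ' d = ρ' d' := by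
    rintro i j ⟨e, he, hi⟩ ⟨e', he', hj⟩ d d' hd hd'
    have h1 : d - d' = φ (e - e') := by
      apply IsFractionRing.injective R' K'
      rw [map_sub (algebraMap R' K'), hd, hd', ← hψ, ← map_sub ψ, hi, hj, map_sub (algebraMap R K)]
      congr 1
      field_simp
      ring
    have h2 : φ (e - e') ∈ maximalIdeal R' := by
      rw [mem_maximalIdeal, mem_nonunits_iff]
      intro h
      exact (mem_nonunits_iff.1 ((mem_maximalIdeal _).1 ((maximalIdeal R).sub_mem he he')))
        (isUnit_of_map_unit φ _ h)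
    rw [← sub_eq_zero, ← map_sub, h1]
    exact hρ' _ h2
  have hB' : ∀ i j, i < j → ¬ S j → ∀ d d' : R', algebraMap R' K' d = ψ ((b i - a) / c) →
      algebraMap R' K' d' = ψ ((b j - a) / c) → False := by
    intro i j hij hj d d' hd hd'
    obtain ⟨e, he, hbj⟩ := hval i j hij
    have hu : IsUnit (1 - e) := by
      by_contra h
      have h1 : (1 - e) + e ∈ maximalIdeal R := (maximalIdeal R).add_mem ((mem_maximalIdeal _).2 h) he
      rw [sub_add_cancel] at h1
      exact (Ideal.ne_top_iff_one _).1 (maximalIdeal.isMaximal R).ne_top h1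
    have h1 : algebraMap R' K' (d - d') = ψ (algebraMap R K (1 - e) * (b i / c)) := by
      rw [map_sub (algebraMap R' K'), hd, hd', ← map_sub ψ, hbj, map_sub (algebraMap R K), map_one]
      congr 1
      field_simp
      ring
    obtain ⟨f, hf⟩ := exists_of_psi φ ψ hψ _ _ h1
    obtain ⟨w, hw⟩ := hu.exists_left_inv
    have h2 : b i / c = algebraMap R K (w * f) := by
      rw [map_mul, hf, ← mul_assoc, ← map_mul, hw, map_one, one_mul]
    apply hj
    refine ⟨e * (w * f), Ideal.mul_mem_right _ _ he, ?_⟩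
    rw [hbj, map_mul, ← h2, mul_assoc, div_mul_cancel₀ _ hc]
  have hB : ∀ i j, ¬ S i → ¬ S j → ∀ d d' : R', algebraMap R' K' d = ψ ((b i - a) / c) →
      algebraMap R' K' d' = ψ ((b j - a) / c) → i = j := by
    intro i j hi hj d d' hd hd'
    rcases lt_trichotomy i j with h | h | h
    · exact (hB' i j h hj d d' hd hd').elim
    · exact h
    · exact (hB' j i h hi d' d hd' hd).elim
  -- the exceptional points
  obtain ⟨α₀, hα₀⟩ : ∃ α₀ : k, ∀ i, S i → ∀ d : R', algebraMap R' K' d = ψ ((b i - a) / c) → ρ' d = α₀ := by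
    by_cases h : ∃ i, S i ∧ ∃ d : R', algebraMap R' K' d = ψ ((b i - a) / c)
    · obtain ⟨i, hi, d, hd⟩ := h
      exact ⟨ρ' d, fun j hj d' hd' => hA j i hj hi d' d hd' hd⟩
    · exact ⟨0, fun i hi d hd => (h ⟨i, hi, d, hd⟩).elim⟩
  obtain ⟨α₁, hα₁⟩ : ∃ α₁ : k, ∀ i, ¬ S i → ∀ d : R', algebraMap R' K' d = ψ ((b i - a) / c) → ρ' d = α₁ := by
    by_cases h : ∃ i, ¬ S i ∧ ∃ d : R', algebraMap R' K' d = ψ ((b i - a) / c)
    · obtain ⟨i, hi, d, hd⟩ := h
      refine ⟨ρ' d, fun j hj d' hd' => ?_⟩
      have := hB i j hi hj d d' hd hd'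
      subst this
      have h1 : d' = d := IsFractionRing.injective R' K' (by rw [hd, hd'])
      rw [h1]
    · exact ⟨0, fun i hi d hd => (h ⟨i, hi, d, hd⟩).elim⟩
  refine ⟨α₀, α₁, fun α hα => ?_⟩
  have hS : ∀ i : {i // ∃ d : R', algebraMap R' K' d = ψ ((b i - a) / c) ∧ ρ' d = α}, ¬ S i := by
    rintro ⟨i, d, hd, hdα⟩ hi
    exact hα (by rw [← hdα, hα₀ i hi d hd])
  haveI : Subsingleton {i // ∃ d : R', algebraMap R' K' d = ψ ((b i - a) / c) ∧ ρ' d = α} := by
    refine ⟨fun x y => Subtype.ext ?_⟩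
    obtain ⟨d, hd, -⟩ := x.2
    obtain ⟨d', hd', -⟩ := y.2
    exact hB x y (hS x) (hS y) d d' hd hd'
  split_ifs with h
  · exact Finite.card_le_one_iff_subsingleton.2 inferInstance
  · rw [Nat.le_zero, Nat.card_eq_zero]
    left
    refine ⟨fun x => ?_⟩
    obtain ⟨d, hd, hdα⟩ := x.2
    exact h (by rw [← hdα, hα₁ x (hS x) d hd])

end Comb

section Main

theorem isAlgebraic_adjoin {K : Type u} [Field K] {B : Type u} [CommRing B] [Algebra K[X] B]
    [Module.Finite K[X] B] {E : Type u} [Field E] [Algebra B E] [IsFractionRing B E] [Algebra K E]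
    (hK : ∀ c : K, algebraMap K E c = algebraMap B E (algebraMap K[X] B (C c))) (y : E) :
    IsAlgebraic (IntermediateField.adjoin K {algebraMap B E (algebraMap K[X] B X)}) y := by
  set x : E := algebraMap B E (algebraMap K[X] B X) with hx
  let L := IntermediateField.adjoin K {x}
  have hxL : x ∈ L := IntermediateField.mem_adjoin_simple_self K x
  letI : Algebra K[X] L := (aeval (R := K) (⟨x, hxL⟩ : L)).toRingHom.toAlgebra
  letI : Algebra K[X] E := ((algebraMap B E).comp (algebraMap K[X] B)).toAlgebra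
  haveI : IsScalarTower K[X] B E := IsScalarTower.of_algebraMap_eq fun _ => rfl
  haveI : IsScalarTower K[X] L E := by
    refine IsScalarTower.of_algebraMap_eq' ?_
    refine Polynomial.ringHom_ext (fun c => ?_) ?_
    · change algebraMap B E (algebraMap K[X] B (C c)) = algebraMap L E (aeval (R := K) (⟨x, hxL⟩ : L) (C c))
      rw [aeval_C, ← hK, ← IsScalarTower.algebraMap_apply]
    · change x = algebraMap L E (aeval (R := K) (⟨x, hxL⟩ : L) X)
      rw [aeval_X]
      rfl
  have hBint : Algebra.IsIntegral K[X] B := Algebra.IsIntegral.of_finite K[X] B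
  have h1 : ∀ z : B, IsAlgebraic L (algebraMap B E z) := fun z =>
    ((Algebra.IsIntegral.isIntegral (R := K[X]) z).algebraMap.tower_top (A := L)).isAlgebraic
  obtain ⟨z, w, hw, rfl⟩ := IsFractionRing.div_surjective (A := B) y
  rw [div_eq_mul_inv]
  exact (h1 z).mul (h1 w).inv

/-- (BADALG) -/
theorem main (hG : GaussStmt.{u}) (hR : RamKillStmt.{u}) (hL : LocalStmt.{u}) : BadAlgStmt.{u} := by
  intro k _ _ _ R _ _ _ _ ρ K _ _ _ B _ _ _ r b hB hb0 hval O _ _ _ _ _ _ hRO E _ _ _ _ _ hcompat hy
  classical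
  haveI := hB.finite
  haveI := hB.free
  haveI : FaithfulSMul K[X] B := by
    rw [faithfulSMul_iff_algebraMap_injective]
    exact (Module.isTorsionFree_iff_algebraMap_injective).1 inferInstance
  have hinj : Function.Injective ((algebraMap B E).comp (algebraMap K[X] B)) :=
    (IsFractionRing.injective B E).comp (FaithfulSMul.algebraMap_injective K[X] B)
  letI : Algebra K E := (((algebraMap B E).comp (algebraMap K[X] B)).comp C).toAlgebra
  have hK : ∀ c : K, algebraMap K E c = algebraMap B E (algebraMap K[X] B (C c)) := fun _ => rfl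
  have hae : ∀ p : K[X], aeval (algebraMap B E (algebraMap K[X] B X)) p = algebraMap B E (algebraMap K[X] B p) := by
    intro p
    have h : (aeval (R := K) (algebraMap B E (algebraMap K[X] B X))).toRingHom =
        (algebraMap B E).comp (algebraMap K[X] B) := by
      refine Polynomial.ringHom_ext (fun c => ?_) ?_
      · change aeval (R := K) (algebraMap B E (algebraMap K[X] B X)) (C c) = _
        rw [aeval_C]
        rfl
      · change aeval (R := K) (algebraMap B E (algebraMap K[X] B X)) X = _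
        rw [aeval_X]
        rfl
    exact congrArg (fun f : K[X] →+* E => f p) h
  have htr : Transcendental K (algebraMap B E (algebraMap K[X] B X)) := by
    rintro ⟨p, hp, hp'⟩
    rw [hae] at hp'
    exact hp (hinj (by rw [map_zero]; exact hp'))
  obtain ⟨a, c, u, hc, hu, huT⟩ := hG k R ρ K E _ htr (isAlgebraic_adjoin hK) O
    (fun a => by rw [hcompat, hK]) hRO hy
  obtain ⟨B', _, _, _, _, _, hB'E, hB'⟩ := reparam a c hc hB E
  have hcompat' : ∀ a : R, algebraMap O E (algebraMap R O a) =
      algebraMap B' E (algebraMap K[X] B' (C (algebraMap R K a))) := by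
    intro a
    rw [hcompat, hB'E, C_comp]
  have hu' : algebraMap O E u = algebraMap B' E (algebraMap K[X] B' X) := by
    have hc' : algebraMap K E c ≠ 0 := by
      rw [Ne, map_eq_zero]
      exact hc
    rw [hB'E, X_comp, map_mul, map_mul, ← hK, map_sub, map_sub, ← hK, ← hu, map_inv₀, inv_mul_cancel_left₀ hc']
  obtain ⟨R', _, _, _, _, ρ', φ, hφ, hφl, K', _, _, _, ψ, hψ, B'', _, _, _, O', _, _, _, _, _, _, E', _, _, _, _, _, u', ε,
    ϖ, hsimp, hRO', hcompat'', hu'', hε, hϖ, hunr⟩ := hR k R ρ K B' r _ hB' O hRO E hcompat' u hu' huT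
  haveI : IsLocalHom (φ : R →+* R') := hφl
  have hρ' : ∀ x ∈ maximalIdeal R', (ρ' : R' →+* k) x = 0 := by
    intro x hx
    have h3 : (RingHom.ker (ρ' : R' →+* k)).IsMaximal :=
      RingHom.ker_isMaximal_of_surjective (ρ' : R' →+* k) fun c => ⟨algebraMap k R' c, ρ'.commutes c⟩
    rw [← IsLocalRing.eq_maximalIdeal h3] at hx
    exact hx
  obtain ⟨α₀, α₁, hα⟩ := comb (ρ' : R' →+* k) (φ : R →+* R') ψ hψ hρ' hval a c hc
  have hεu : Transcendental k (residue O' u') := by
    rw [← hε]
    rintro ⟨p, hp, hp'⟩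
    refine huT ⟨p, hp, ε.injective ?_⟩
    rw [map_zero, ← hp']
    exact (aeval_algHom_apply (ε : ResidueField O →ₐ[k] ResidueField O') _ p).symm
  refine ⟨residue O u, α₀, α₁, huT, ?_⟩
  intro M _ _ _ _ _ _ _ _ _ hfin hMu α hαα
  letI : Algebra M (ResidueField O') :=
    ((ε : ResidueField O →+* ResidueField O').comp (algebraMap M (ResidueField O))).toAlgebra
  let ε' : ResidueField O ≃ₐ[M] ResidueField O' := { ε with commutes' := fun m => rfl }
  haveI : IsFractionRing M (ResidueField O') := IsLocalization.isLocalization_of_algEquiv M⁰ ε'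
  haveI : IsScalarTower k M (ResidueField O') := IsScalarTower.of_algebraMap_eq fun c => by
    change _ = ε (algebraMap M (ResidueField O) (algebraMap k M c))
    rw [← IsScalarTower.algebraMap_apply, ε.commutes]
  refine (hL k R' ρ' K' B'' r _ hsimp O' hRO' E' hcompat'' u' hu'' hεu ϖ hϖ hunr
    (fun α => Nat.card {i // ∃ d : R', algebraMap R' K' d = ψ ((b i - a) / c) ∧ ρ' d = α}) (fun α => le_rfl)
    M hfin ?_ α).trans (Nat.add_le_add_left (hα α hαα) _)
  change ε (algebraMap M (ResidueField O) (algebraMap k[X] M X)) = _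
  rw [hMu, hε]

end Main

end K760.BadAlg
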