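import Groth.Agent.CurvSt.K760.LVal

/-!
# The number of points of the special cover over a point of the line: `LocalStmt`
-/

set_option autoImplicit false
set_option linter.style.haveILetI false

universe u

open Polynomial Module IsLocalRing
open scoped nonZeroDivisors Matrix

namespace K760.Local

open Hurw Surf LRed LVal

theorem isFractionRing_RX {R K F : Type*} [CommRing R] [IsDomain R] [IsDiscreteValuationRing R] [Field K]
    [Algebra R K] [IsFractionRing R K] [Field F] [Algebra K[X] F] [IsFractionRing K[X] F] [Algebra R[X] F]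
    (h : ∀ p : R[X], algebraMap R[X] F p = algebraMap K[X] F (p.map (algebraMap R K))) : IsFractionRing R[X] F := by
  have hinjK : Function.Injective (algebraMap K[X] F) := IsFractionRing.injective K[X] F
  have hinjR : Function.Injective (Polynomial.map (algebraMap R K)) :=
    Polynomial.map_injective _ (IsFractionRing.injective R K)
  haveI : FaithfulSMul R[X] F := by
    rw [faithfulSMul_iff_algebraMap_injective]
    intro p q hpq
    rw [h, h] at hpq
    exact hinjR (hinjK hpq)
  refine IsFractionRing.of_field R[X] F fun z => ?_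
  obtain ⟨a, b, hb, rfl⟩ := IsFractionRing.div_surjective (A := K[X]) z
  obtain ⟨t, g, ht, hg⟩ := LDisc.exists_clear (R := R) a
  obtain ⟨t', g', ht', hg'⟩ := LDisc.exists_clear (R := R) b
  refine ⟨g * C t', C t * g', ?_⟩
  have hb0 : algebraMap K[X] F b ≠ 0 := by
    rw [Ne, map_eq_zero_iff _ hinjK]
    exact nonZeroDivisors.ne_zero hb
  have hC : ∀ {s : R}, s ≠ 0 → algebraMap K[X] F (C (algebraMap R K s)) ≠ 0 := by
    intro s hs
    rw [Ne, map_eq_zero_iff _ hinjK, C_eq_zero, map_eq_zero_iff _ (IsFractionRing.injective R K)]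
    exact hs
  rw [h, h, Polynomial.map_mul, Polynomial.map_mul, ← hg, ← hg', map_C, map_C, map_mul, map_mul, map_mul, map_mul]
  have h1 := hC ht
  have h2 := hC ht'
  field_simp

/-- The reduction of the ring of integers. -/
theorem exists_M₀ {A V N : Type u} [CommRing A] [CommRing V] [CommRing N] [Algebra A N] (φ : A →+* V)
    (hφ : Function.Surjective φ) (c : A) (hc : RingHom.ker φ = Ideal.span {c}) :
    ∃ (M₀ : Type u) (_ : CommRing M₀) (_ : Algebra V M₀) (mk : N →+* M₀), Function.Surjective mk ∧
      RingHom.ker mk = Ideal.span {algebraMap A N c} ∧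
      ∀ a : A, mk (algebraMap A N a) = algebraMap V M₀ (φ a) := by
  let I : Ideal N := Ideal.span {algebraMap A N c}
  have hle : RingHom.ker φ ≤ RingHom.ker ((Ideal.Quotient.mk I).comp (algebraMap A N)) := by
    rw [hc, Ideal.span_le]
    intro x hx
    rw [Set.mem_singleton_iff.1 hx]
    change Ideal.Quotient.mk I (algebraMap A N c) = 0
    rw [Ideal.Quotient.eq_zero_iff_mem]
    exact Ideal.subset_span rfl
  let θ : V →+* (N ⧸ I) := φ.liftOfSurjective hφ ⟨(Ideal.Quotient.mk I).comp (algebraMap A N), hle⟩
  refine ⟨N ⧸ I, inferInstance, θ.toAlgebra, Ideal.Quotient.mk I, Ideal.Quotient.mk_surjective, Ideal.mk_ker,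
    fun a => ?_⟩
  change _ = θ (φ a)
  exact (RingHom.liftOfRightInverse_comp_apply φ _ _ ⟨(Ideal.Quotient.mk I).comp (algebraMap A N), hle⟩ a).symm

/-- The number of points of the special cover, abstract fraction field. -/
theorem core (hfree : FreeStmt.{u}) (hnil : DiscNilStmt.{u}) {k : Type u} [Field k] [CharZero k]
    {R : Type u} [CommRing R] [IsDomain R] [IsDiscreteValuationRing R] [Algebra k R] (ρ : R →ₐ[k] k)
    {K : Type u} [Field K] [Algebra R K] [IsFractionRing R K]
    {B : Type u} [CommRing B] [IsDomain B] [Algebra K[X] B] {r : ℕ} {b : Fin r → K} (hB : IsSimp K b B)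
    {O : Type u} [CommRing O] [IsDomain O] [IsDiscreteValuationRing O] [Algebra k O] [Algebra R O]
    [IsScalarTower k R O] (hRO : (maximalIdeal R).map (algebraMap R O) = maximalIdeal O)
    {E : Type u} [Field E] [Algebra B E] [IsFractionRing B E] [Algebra O E] [IsFractionRing O E]
    (hcompat : ∀ a : R, algebraMap O E (algebraMap R O a) =
        algebraMap B E (algebraMap K[X] B (C (algebraMap R K a))))
    (u : O) (hx : algebraMap O E u = algebraMap B E (algebraMap K[X] B X)) (hu : Transcendental k (residue O u))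
    {ϖ : R} (hϖ : maximalIdeal R = Ideal.span {ϖ}) (hunr : Unr R K B ϖ)
    (M : Type u) [CommRing M] [IsDomain M] [IsIntegrallyClosed M] [Algebra k M] [Algebra k[X] M]
    [IsScalarTower k k[X] M] [Algebra M (ResidueField O)] [IsFractionRing M (ResidueField O)]
    [IsScalarTower k M (ResidueField O)] [Module.Finite k[X] M]
    (hMu : algebraMap M (ResidueField O) (algebraMap k[X] M X) = residue O u) (α : k)
    {F : Type u} [Field F] [CharZero F] [Algebra K[X] F] [IsFractionRing K[X] F] [Algebra K[X] E]
    [IsScalarTower K[X] B E]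
    [Algebra F E] [IsScalarTower K[X] F E] [FiniteDimensional F E] [Algebra R[X] F]
    (hF : ∀ p : R[X], algebraMap R[X] F p = algebraMap K[X] F (p.map (algebraMap R K))) [Algebra R[X] E]
    [IsScalarTower R[X] F E] (hE : ∀ p : R[X], algebraMap R[X] E p = algebraMap B E (rx R K B p))
    [IsIntegrallyClosed B] :
    Module.finrank k (M ⧸ Ideal.span {algebraMap k[X] M (X - C α)}) ≤
        Module.finrank k (M ⧸ (Ideal.span {algebraMap k[X] M (X - C α)}).radical) +
          Nat.card {i // ∃ c : R, algebraMap R K c = b i ∧ ρ c = α} := by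
  classical
  have hρ := LVal.rho_surjective ρ
  have hO : (maximalIdeal R).map (algebraMap R O) ≤ maximalIdeal O := hRO.le
  haveI := isFractionRing_RX (R := R) (K := K) (F := F) hF
  have hinjF : Function.Injective (algebraMap R[X] F) := IsFractionRing.injective R[X] F
  let A := LA ρ.toRingHom α
  have hunitF : ∀ p : (pr ρ.toRingHom α).primeCompl, IsUnit (algebraMap R[X] F p) := by
    intro p
    rw [isUnit_iff_ne_zero, Ne, map_eq_zero_iff _ hinjF]
    intro h0
    exact p.2 (by rw [h0]; exact Ideal.zero_mem _)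
  letI : Algebra A F :=
    (IsLocalization.lift (M := (pr ρ.toRingHom α).primeCompl) (S := A) hunitF).toAlgebra
  haveI : IsScalarTower R[X] A F := IsScalarTower.of_algebraMap_eq fun x => (IsLocalization.lift_eq hunitF x).symm
  haveI : IsFractionRing A F :=
    IsFractionRing.isFractionRing_of_isDomain_of_isLocalization (pr ρ.toRingHom α).primeCompl A F
  letI : Algebra A E := ((algebraMap F E).comp (algebraMap A F)).toAlgebra
  haveI : IsScalarTower A F E := IsScalarTower.of_algebraMap_eq fun _ => rfl
  haveI : IsScalarTower R[X] A E := IsScalarTower.of_algebraMap_eq fun x => by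
    rw [IsScalarTower.algebraMap_apply A F E, ← IsScalarTower.algebraMap_apply R[X] A F,
      ← IsScalarTower.algebraMap_apply]
  haveI : IsRegularLocalRing A := isRegular_LA ρ.toRingHom hρ hϖ α
  let N := integralClosure A E
  obtain ⟨hNfin, hNfree⟩ := hfree A (dim_LA ρ.toRingHom hρ hϖ α) F E N
  obtain ⟨M₀, _, _, mk, hmk, hker, hcomp⟩ := exists_M₀ (N := N) (red ρ.toRingHom α)
    (red_surjective ρ.toRingHom α hρ) _ (ker_red ρ.toRingHom hρ hϖ α)
  obtain ⟨e', -, -⟩ := QuotBasis.exists_basis (red ρ.toRingHom α) mk (red_surjective ρ.toRingHom α hρ) hmk hcomp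
    (by rw [hker, ker_red ρ.toRingHom hρ hϖ α, Ideal.map_span, Set.image_singleton])
    (Module.Free.chooseBasis A N)
  haveI : Module.Free (LV α) M₀ := Module.Free.of_basis e'
  haveI : IsReduced M₀ := isReduced ρ.toRingHom hρ α hE mk hunr hmk hker hcomp
  letI : Algebra k M₀ := ((algebraMap (LV α) M₀).comp ((algebraMap k[X] (LV α)).comp C)).toAlgebra
  have hk₀ : ∀ c : k, algebraMap k M₀ c = algebraMap (LV α) M₀ (algebraMap k[X] (LV α) (C c)) := fun _ => rfl
  have hAF : ∀ p : R[X], algebraMap A F (algebraMap R[X] A p) = algebraMap K[X] F (p.map (algebraMap R K)) := by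
    intro p
    rw [← IsScalarTower.algebraMap_apply, hF]
  obtain ⟨hfin, hle⟩ := nil_le ρ.toRingHom hρ hϖ α E mk hnil hB hAF hmk hker hcomp hk₀
  -- the residue field
  letI : Algebra k[X] (ResidueField O) := (aeval (R := k) (residue O u)).toRingHom.toAlgebra
  have hκ : ∀ p : k[X], algebraMap k[X] (ResidueField O) p = aeval (residue O u) p := fun _ => rfl
  letI : Algebra (LV α) (ResidueField O) := (th α u hu).toAlgebra
  have hθ : ∀ v : LV α, algebraMap (LV α) (ResidueField O) v = th α u hu v := fun _ => rfl
  haveI : IsScalarTower k[X] (LV α) (ResidueField O) := IsScalarTower.of_algebraMap_eq fun p => by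
    rw [hκ, hθ, th_algebraMap]
  haveI : IsScalarTower k[X] M (ResidueField O) := by
    refine IsScalarTower.of_algebraMap_eq' ?_
    refine Polynomial.ringHom_ext (fun c => ?_) ?_
    · rw [hκ, aeval_C, RingHom.comp_apply, C_eq_algebraMap, ← IsScalarTower.algebraMap_apply k k[X] M,
        ← IsScalarTower.algebraMap_apply]
    · rw [hκ, aeval_X, RingHom.comp_apply, hMu]
  have hinj : Function.Injective (algebraMap k[X] (ResidueField O)) := by
    rw [injective_iff_map_eq_zero]
    intro p hp
    by_contra h
    exact aeval_ne_zero u hu h hp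
  obtain ⟨ν, hν, hνA⟩ := exists_nu ρ α hO u hu hcompat hx hE (N := N)
  have hle' : RingHom.ker mk ≤ RingHom.ker ((residue O).comp ν) := by
    rw [hker, Ideal.span_le]
    rintro _ rfl
    change residue O (ν _) = 0
    rw [hνA, chi_algebraMap, residue_eq_zero_iff, ev, coe_eval₂RingHom, eval₂_C]
    refine hO (Ideal.mem_map_of_mem _ ?_)
    rw [hϖ]
    exact Ideal.subset_span rfl
  let ψ₀ : M₀ →+* ResidueField O := mk.liftOfSurjective hmk ⟨(residue O).comp ν, hle'⟩
  have hψ₀ : ∀ n : N, ψ₀ (mk n) = residue O (ν n) := fun n =>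
    RingHom.liftOfRightInverse_comp_apply mk _ _ ⟨(residue O).comp ν, hle'⟩ n
  let ψ : M₀ →ₐ[LV α] ResidueField O :=
    { ψ₀ with
      commutes' := fun v => by
        obtain ⟨a, rfl⟩ := red_surjective ρ.toRingHom α hρ v
        change ψ₀ _ = _
        rw [← hcomp, hψ₀, hνA, residue_chi, hθ] }
  have hfrac : ∀ y : ResidueField O, ∃ (n : M₀) (v : LV α), v ≠ 0 ∧
      algebraMap (LV α) (ResidueField O) v * y = ψ n := by
    intro y
    obtain ⟨o, rfl⟩ := residue_surjective y
    obtain ⟨n, s, hs, hint, hon⟩ := exists_n ρ hϖ hO u hu F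
      (fun p => by rw [algebraMap_ev u hcompat hx, hE]) o
    have hint' : IsIntegral A (algebraMap R[X] E s * algebraMap O E n) := hint.tower_top
    obtain ⟨n', hn'⟩ : ∃ n' : N, (n' : E) = algebraMap R[X] E s * algebraMap O E n := ⟨⟨_, hint'⟩, rfl⟩
    have hνn : ν n' = ev R u s * n := by
      apply IsFractionRing.injective O E
      rw [hν, map_mul, algebraMap_ev u hcompat hx, ← hE]
      exact hn'
    refine ⟨mk n', red ρ.toRingHom α (algebraMap R[X] A s), ?_, ?_⟩
    · rw [red_algebraMap, Ne, map_eq_zero_iff _ (injective_LV α)]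
      exact hs
    · change _ = ψ₀ (mk n')
      rw [hψ₀, hνn, map_mul, hθ, red_algebraMap, th_algebraMap, residue_ev ρ hO u, hon]
  have hcmp := Compare.compare α (LV α) (ResidueField O) M₀ M hinj hk₀ ψ hfrac
  have hcard : Nat.card {i // ∃ c : R, algebraMap R K c = b i ∧ ρ.toRingHom c = α} =
      Nat.card {i // ∃ c : R, algebraMap R K c = b i ∧ ρ c = α} := rfl
  rw [hcard] at hle
  exact hcmp.trans (Nat.add_le_add_left hle _)

/-- (BA3) -/
theorem main (hfree : FreeStmt.{u}) (hnil : DiscNilStmt.{u}) : LocalStmt.{u} := by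
  intro k _ _ _ R _ _ _ _ ρ K _ _ _ B _ _ _ r b hB O _ _ _ _ _ _ hRO E _ _ _ _ _ hcompat u hx hu ϖ hϖ hunr m hm
    M _ _ _ _ _ _ _ _ _ hfin hMu α
  haveI := hB.finite
  haveI := hB.free
  haveI : CharZero R := charZero_of_injective_algebraMap (algebraMap k R).injective
  haveI : CharZero K := charZero_of_injective_algebraMap (IsFractionRing.injective R K)
  haveI : IsIntegrallyClosed B := hB.isIntegrallyClosed
  haveI : FaithfulSMul K[X] B := by
    rw [faithfulSMul_iff_algebraMap_injective]
    exact (Module.isTorsionFree_iff_algebraMap_injective).1 inferInstance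
  have hBint : Algebra.IsIntegral K[X] B := Algebra.IsIntegral.of_finite K[X] B
  letI : Algebra K[X] E := ((algebraMap B E).comp (algebraMap K[X] B)).toAlgebra
  haveI : IsScalarTower K[X] B E := IsScalarTower.of_algebraMap_eq fun _ => rfl
  haveI : FaithfulSMul K[X] E := by
    rw [faithfulSMul_iff_algebraMap_injective]
    exact (IsFractionRing.injective B E).comp (FaithfulSMul.algebraMap_injective K[X] B)
  let F := FractionRing K[X]
  letI : Algebra F E := FractionRing.liftAlgebra K[X] E
  haveI : IsScalarTower K[X] F E := FractionRing.isScalarTower_liftAlgebra K[X] E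
  haveI : CharZero K[X] := charZero_of_injective_algebraMap (R := K) C_injective
  haveI : CharZero F := charZero_of_injective_algebraMap (IsFractionRing.injective K[X] F)
  haveI hloc : IsLocalization (Algebra.algebraMapSubmonoid B K[X]⁰) E := inferInstance
  haveI : FiniteDimensional F E :=
    Module.Finite.of_basis ((Module.Free.chooseBasis K[X] B).localizationLocalization F K[X]⁰ E)
  letI : Algebra R[X] F := ((algebraMap K[X] F).comp (mapRingHom (algebraMap R K))).toAlgebra
  letI : Algebra R[X] E := ((algebraMap K[X] E).comp (mapRingHom (algebraMap R K))).toAlgebra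
  haveI : IsScalarTower R[X] F E := IsScalarTower.of_algebraMap_eq fun p => by
    change algebraMap K[X] E (p.map (algebraMap R K)) = algebraMap F E (algebraMap K[X] F (p.map (algebraMap R K)))
    rw [← IsScalarTower.algebraMap_apply]
  exact (core hfree hnil ρ hB hRO hcompat u hx hu hϖ hunr M hMu α (F := F) (fun _ => rfl) (fun _ => rfl)).trans
    (Nat.add_le_add_left (hm α) _)

end K760.Local
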