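import Groth.Agent.CurvSt.K760.Final
import Groth.Agent.CurvSt.K760.Local
import Groth.Agent.CurvSt.K760.BadAlg
import Groth.Agent.CurvSt.K376.SimpMain
import Groth.Agent.CurvSt.K133.Disc
import Groth.Agent.CurvSt.K133.W0
import Groth.Agent.CurvSt.K603.P1BC
import Groth.Agent.CurvSt.K603.Fam
import Groth.Agent.CurvSt.K681.Double
import Groth.Agent.CurvSt.K681.DoubleBC
import Groth.Agent.CurvSt.K445.InvolLift
import Groth.Agent.CurvSt.K492.Quot
import Groth.Agent.CurvSt.K228.Gen
import Groth.Agent.CurvSt.K228.Free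
import Groth.Agent.CurvSt.K90.Gauss
import Groth.Agent.CurvSt.K90.RamKill
import Groth.Agent.CurvSt.K90.DiscNil
import Groth.Agent.CurvSt.K361.Bad
import Groth.Agent.CurvSt.K641.HurwAsm
import Groth.Agent.CurvSt.K950.HurwT1

/-!
# The nodes of the degeneration of smooth curves (S16736), assembled
-/

set_option autoImplicit false

universe u

namespace K760.All

open Hurw

theorem simple : SimpleStmt.{u} := K376.SimpMain.main K133.Hurw.disc_main

theorem lift : LiftStmt.{u} :=
  K950.HurwLift.main K603.Hurw.p1BC K681.Hurw.double_main (K681.Hurw.doubleBC_main K603.Hurw.p1BC) K133.W0.main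
    K445.Hurw.main K492.Hurw.main K228.Hurw.Gen.main

theorem t1 : T1Stmt.{u} := K950.HurwT1.main K603.Hurw.p1BC lift

theorem local' : LocalStmt.{u} := K760.Local.main K228.Hurw.Free.main K90.Hurw.discNil

theorem badAlg : BadAlgStmt.{u} := K760.BadAlg.main K90.Hurw.gauss K90.Hurw.ramKill local'

theorem bad : BadStmt.{u} := K361.Hurw.main badAlg

end K760.All
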