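import Groth.Agent.CurvSt.K760.QuotBasis
import Mathlib.LinearAlgebra.Dimension.Localization
import Mathlib.RingTheory.DedekindDomain.Dvr

/-!
# Comparison of the number of points of a finite cover of the line and of a birational image
-/

set_option autoImplicit false
set_option linter.style.haveILetI false

universe u

open Polynomial Module
open scoped nonZeroDivisors

namespace K760.Compare

section Art

/-- In an Artinian ring, an element whose image is nilpotent has the same image as a nilpotent element. -/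
theorem exists_nilpotent {S S₁ : Type*} [CommRing S] [CommRing S₁] [IsArtinianRing S] (f : S →+* S₁) (x : S)
    (hx : IsNilpotent (f x)) : ∃ x' : S, IsNilpotent x' ∧ f x' = f x := by
  obtain ⟨n, y, hy⟩ := IsArtinian.exists_pow_succ_smul_dvd x (1 : S)
  rw [smul_eq_mul, smul_eq_mul, mul_one] at hy
  have h1 : ∀ j : ℕ, x ^ n * (x * y) ^ j = x ^ n := by
    intro j
    induction j with
    | zero => simp
    | succ j ih =>
      rw [pow_succ, ← mul_assoc, ih, ← mul_assoc, ← pow_succ]
      exact hy
  have h2 : x ^ n * (x ^ n * y ^ n) = x ^ n := by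
    rw [← mul_pow]
    exact h1 n
  set e : S := x ^ n * y ^ n with he
  have hee : e * e = e := by
    calc e * e = (x ^ n * e) * y ^ n := by rw [he]; ring
      _ = e := by rw [h2]
  have hfe : f e = 0 := by
    have h3 : IsIdempotentElem (f e) := by
      rw [IsIdempotentElem, ← map_mul, hee]
    rcases Nat.eq_zero_or_pos n with rfl | hn
    · -- `x ^ 0 = x * y`: then `x` is a unit
      have h4 : x * y = 1 := by simpa using hy
      have h5 : IsUnit (f x) := IsUnit.of_mul_eq_one (f y) (by rw [← map_mul, h4, map_one])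
      have h6 : Subsingleton S₁ := by
        obtain ⟨m, hm⟩ := hx
        have h7 : IsUnit (f x ^ m) := h5.pow m
        rw [hm] at h7
        exact isUnit_zero_iff.1 h7 |> fun h => subsingleton_of_zero_eq_one h
      exact Subsingleton.elim _ _
    · have h4 : IsNilpotent (f e) := by
        rw [he, map_mul, map_pow]
        exact (nilradical S₁).mul_mem_right (f (y ^ n)) (IsNilpotent.pow_of_pos hx hn.ne')
      obtain ⟨m, hm⟩ := h4
      have := h3.pow_succ_eq m
      rw [← this, pow_succ, hm, zero_mul]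
  refine ⟨x * (1 - e), ⟨n + 1, ?_⟩, ?_⟩
  · have h5 : x ^ n * (1 - e) = 0 := by rw [mul_sub, mul_one, h2, sub_self]
    rw [mul_pow, pow_succ, pow_succ]
    calc x ^ n * x * ((1 - e) ^ n * (1 - e)) = (x ^ n * (1 - e)) * (x * (1 - e) ^ n) := by ring
      _ = 0 := by rw [h5, zero_mul]
  · rw [map_mul, map_sub, map_one, hfe, sub_zero, mul_one]

variable {k : Type*} [Field k] {S S₁ : Type*} [CommRing S] [CommRing S₁] [Algebra k S] [Algebra k S₁]
  [FiniteDimensional k S]

/-- The nilradical of a quotient of a finite dimensional algebra is not bigger than the nilradical. -/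
theorem finrank_nilradical_le (f : S →ₐ[k] S₁) (hf : Function.Surjective f) :
    finrank k (nilradical S₁) ≤ finrank k (nilradical S) := by
  have hart : IsArtinianRing S := isArtinian_of_tower k (inferInstance : IsArtinian k S)
  have key : ∀ y ∈ nilradical S₁, ∃ x ∈ nilradical S, f x = y := by
    intro y hy
    obtain ⟨x, rfl⟩ := hf y
    obtain ⟨x', h1, h2⟩ := exists_nilpotent (f : S →+* S₁) x hy
    exact ⟨x', h1, h2⟩
  have hle : (nilradical S₁).restrictScalars k ≤
      ((nilradical S).restrictScalars k).map f.toLinearMap := by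
    intro y hy
    obtain ⟨x, hx, rfl⟩ := key y hy
    exact ⟨x, hx, rfl⟩
  calc finrank k (nilradical S₁) = finrank k ((nilradical S₁).restrictScalars k) := rfl
    _ ≤ finrank k (((nilradical S).restrictScalars k).map f.toLinearMap) :=
        Submodule.finrank_mono hle
    _ ≤ finrank k ((nilradical S).restrictScalars k) := Submodule.finrank_map_le _ _
    _ = finrank k (nilradical S) := rfl

end Art

section Integral

variable (V κ : Type*) [CommRing V] [CommRing κ] [Algebra V κ] (M₁ : Subalgebra V κ)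

/-- If `z ^ n = τ w` with `z ∈ M₁` and `w` integral over `V`, then a power of `z` is divisible by `τ` in `M₁`. -/
theorem exists_pow_mem (τ : V) (z : M₁) (w : κ) (hw : IsIntegral V w) (n : ℕ)
    (h : (z : κ) ^ n = algebraMap V κ τ * w) :
    ∃ (m : ℕ) (c : M₁), z ^ m = algebraMap V M₁ τ * c := by
  obtain ⟨P, hP, hPw⟩ := hw
  have h1 : (P.scaleRoots τ).eval₂ (algebraMap V κ) (algebraMap V κ τ * w) = 0 :=
    scaleRoots_eval₂_eq_zero (algebraMap V κ) hPw
  rw [← h] at h1
  have hdeg : (P.scaleRoots τ).natDegree = P.natDegree := natDegree_scaleRoots P τ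
  have h2 : (P.scaleRoots τ).eval₂ (algebraMap V M₁) (z ^ n) = 0 := by
    apply Subtype.val_injective (p := fun x => x ∈ M₁)
    change (M₁.val : M₁ →+* κ) _ = 0
    rw [hom_eval₂]
    exact h1
  rw [eval₂_eq_sum_range, hdeg, Finset.sum_range_succ, coeff_scaleRoots_natDegree, hP.leadingCoeff, map_one,
    one_mul] at h2
  refine ⟨n * P.natDegree, -∑ i ∈ Finset.range P.natDegree,
    algebraMap V M₁ (P.coeff i * τ ^ (P.natDegree - i - 1)) * (z ^ n) ^ i, ?_⟩
  rw [pow_mul, eq_neg_of_add_eq_zero_right h2, mul_neg, Finset.mul_sum]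
  congr 1
  refine Finset.sum_congr rfl fun i hi => ?_
  rw [coeff_scaleRoots, ← mul_assoc, ← map_mul]
  congr 2
  have hi' : i < P.natDegree := Finset.mem_range.1 hi
  obtain ⟨e, he⟩ : ∃ e, P.natDegree - i = e + 1 := ⟨P.natDegree - i - 1, by omega⟩
  rw [he, pow_succ, Nat.add_sub_cancel]
  ring

end Integral

section Main

variable {k : Type*} [Field k] (α : k) [hP : (Ideal.span {(X - C α : k[X])}).IsPrime]
  (V : Type*) [CommRing V] [IsDomain V] [Algebra k[X] V] [IsLocalization.AtPrime V (Ideal.span {(X - C α : k[X])})]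

theorem eval_ne_zero {p : k[X]} (hp : p ∈ (Ideal.span {(X - C α : k[X])}).primeCompl) : p.eval α ≠ 0 := by
  intro h
  exact hp (Ideal.mem_span_singleton.2 (dvd_iff_isRoot.2 h))

/-- The residue map `V → k`. -/
noncomputable def res : V →+* k :=
  IsLocalization.lift (M := (Ideal.span {(X - C α : k[X])}).primeCompl) (g := evalRingHom α)
    (fun p => isUnit_iff_ne_zero.2 (eval_ne_zero α p.2))

omit [IsDomain V] in
theorem res_algebraMap (p : k[X]) : res α V (algebraMap k[X] V p) = p.eval α :=
  IsLocalization.lift_eq _ p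

omit [IsDomain V] in
theorem res_surjective : Function.Surjective (res α V) := fun c =>
  ⟨algebraMap k[X] V (C c), by rw [res_algebraMap, eval_C]⟩

omit [IsDomain V] in
theorem ker_res : RingHom.ker (res α V) = Ideal.span {algebraMap k[X] V (X - C α)} := by
  apply le_antisymm
  · intro v hv
    obtain ⟨p, s, rfl⟩ := IsLocalization.exists_mk'_eq (Ideal.span {(X - C α : k[X])}).primeCompl v
    have h1 : p.eval α = 0 := by
      have h2 : algebraMap k[X] V p = IsLocalization.mk' V p s * algebraMap k[X] V s := by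
        rw [IsLocalization.mk'_spec]
      have h3 := congrArg (res α V) h2
      rw [map_mul, (RingHom.mem_ker.1 hv), zero_mul, res_algebraMap] at h3
      exact h3
    obtain ⟨q, rfl⟩ := dvd_iff_isRoot.2 h1
    rw [Ideal.mem_span_singleton]
    refine ⟨IsLocalization.mk' V q s, ?_⟩
    rw [IsLocalization.mul_mk'_eq_mk'_of_mul]
  · rw [Ideal.span_le]
    rintro _ rfl
    change res α V _ = 0
    rw [res_algebraMap]
    simp

variable (κ : Type*) [Field κ] [Algebra k[X] κ] [Algebra V κ] [IsScalarTower k[X] V κ]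
  (M₀ : Type*) [CommRing M₀] [Algebra V M₀] [Module.Finite V M₀] [Algebra k M₀]
  (M : Type*) [CommRing M] [IsDomain M] [IsIntegrallyClosed M] [Algebra k M] [Algebra k[X] M]
  [IsScalarTower k k[X] M] [Module.Finite k[X] M] [Algebra M κ] [IsFractionRing M κ] [IsScalarTower k[X] M κ]

include α in
/-- The comparison. -/
theorem compare (hinj : Function.Injective (algebraMap k[X] κ))
    (hk₀ : ∀ c : k, algebraMap k M₀ c = algebraMap V M₀ (algebraMap k[X] V (C c)))
    (ψ : M₀ →ₐ[V] κ) (hfrac : ∀ y : κ, ∃ (n : M₀) (v : V), v ≠ 0 ∧ algebraMap V κ v * y = ψ n) :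
    finrank k (M ⧸ Ideal.span {algebraMap k[X] M (X - C α)}) ≤
      finrank k (M ⧸ (Ideal.span {algebraMap k[X] M (X - C α)}).radical) +
        finrank k (nilradical (M₀ ⧸ Ideal.span {algebraMap V M₀ (algebraMap k[X] V (X - C α))})) := by
  classical
  -- the base
  have hne : (Ideal.span {(X - C α : k[X])}) ≠ ⊥ := by
    rw [Ne, Ideal.span_singleton_eq_bot]
    exact X_sub_C_ne_zero α
  have hdvr : IsDiscreteValuationRing V :=
    IsLocalization.AtPrime.isDiscreteValuationRing_of_dedekind_domain k[X] hne V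
  have hVinj : Function.Injective (algebraMap V κ) := by
    rw [injective_iff_map_eq_zero]
    intro v hv
    obtain ⟨p, s, rfl⟩ := IsLocalization.exists_mk'_eq (Ideal.span {(X - C α : k[X])}).primeCompl v
    have h2 : algebraMap k[X] V p = IsLocalization.mk' V p s * algebraMap k[X] V s := by
      rw [IsLocalization.mk'_spec]
    have h3 := congrArg (algebraMap V κ) h2
    rw [map_mul, hv, zero_mul, ← IsScalarTower.algebraMap_apply] at h3
    have h4 : p = 0 := hinj (by rw [h3, map_zero])
    rw [h4, IsLocalization.mk'_zero]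
  letI : Algebra k V := ((algebraMap k[X] V).comp C).toAlgebra
  letI : Algebra k κ := ((algebraMap k[X] κ).comp C).toAlgebra
  haveI : IsScalarTower k V κ := IsScalarTower.of_algebraMap_eq fun c => by
    change algebraMap k[X] κ (C c) = algebraMap V κ (algebraMap k[X] V (C c))
    rw [← IsScalarTower.algebraMap_apply]
  haveI : IsScalarTower k V M₀ := IsScalarTower.of_algebraMap_eq hk₀
  let τ : V := algebraMap k[X] V (X - C α)
  let M₁ : Subalgebra V κ := ψ.range
  let N : Subalgebra V κ := integralClosure V κ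
  let ψ₁ : M₀ →ₐ[V] M₁ := ψ.rangeRestrict
  have hψ₁ : Function.Surjective ψ₁ := ψ.rangeRestrict_surjective
  haveI hM₁fin : Module.Finite V M₁ := Module.Finite.of_surjective ψ₁.toLinearMap hψ₁
  haveI : FaithfulSMul M₁ κ := by
    rw [faithfulSMul_iff_algebraMap_injective]
    exact Subtype.val_injective
  haveI hM₁frac : IsFractionRing M₁ κ := by
    refine IsFractionRing.of_field M₁ κ fun y => ?_
    obtain ⟨n, v, hv, h⟩ := hfrac y
    refine ⟨ψ₁ n, algebraMap V M₁ v, ?_⟩
    have hv' : algebraMap V κ v ≠ 0 := fun h0 => hv (hVinj (by rw [h0, map_zero]))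
    change y = ψ n / algebraMap V κ v
    rw [← h, mul_div_cancel_left₀ _ hv']
  haveI : FaithfulSMul V M₁ := by
    rw [faithfulSMul_iff_algebraMap_injective]
    intro x y h
    exact hVinj (congrArg (fun z : M₁ => (z : κ)) h)
  haveI : Module.IsTorsionFree V M₁ := by
    rw [Module.isTorsionFree_iff_algebraMap_injective, ← faithfulSMul_iff_algebraMap_injective]
    infer_instance
  haveI : Module.Free V M₁ := inferInstance
  haveI : FaithfulSMul k[X] M := by
    rw [faithfulSMul_iff_algebraMap_injective]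
    intro x y h
    apply hinj
    rw [IsScalarTower.algebraMap_apply k[X] M κ, h, ← IsScalarTower.algebraMap_apply]
  haveI : Module.IsTorsionFree k[X] M := by
    rw [Module.isTorsionFree_iff_algebraMap_injective, ← faithfulSMul_iff_algebraMap_injective]
    infer_instance
  haveI : Module.Free k[X] M := inferInstance
  have hMκ : Function.Injective (algebraMap M κ) := IsFractionRing.injective M κ
  -- ranks
  have hrank : finrank V M₁ = finrank k[X] M := by
    have r1 : finrank V M₁ = finrank V κ := IsFractionRing.finrank_left_eq V (S := M₁) κ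
    have r2 : finrank k[X] M = finrank k[X] κ := IsFractionRing.finrank_left_eq k[X] (S := M) κ
    have r3 : finrank V κ = finrank k[X] κ :=
      IsLocalization.finrank_eq V (Ideal.span {(X - C α : k[X])}).primeCompl
        (Ideal.primeCompl_le_nonZeroDivisors _)
    rw [r1, r2, r3]
  -- reduction of `M`
  have hkerev : RingHom.ker (evalRingHom α) = Ideal.span {(X - C α : k[X])} := by
    ext p
    rw [RingHom.mem_ker, Ideal.mem_span_singleton, coe_evalRingHom, dvd_iff_isRoot]
    rfl
  let IM : Ideal M := Ideal.span {algebraMap k[X] M (X - C α)}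
  have hMk : ∀ p : k[X], Ideal.Quotient.mk IM (algebraMap k[X] M p) = algebraMap k (M ⧸ IM) (p.eval α) := by
    intro p
    rw [IsScalarTower.algebraMap_apply k M (M ⧸ IM), Ideal.Quotient.algebraMap_eq, Ideal.Quotient.eq,
      IsScalarTower.algebraMap_apply k k[X] M, ← map_sub, Ideal.mem_span_singleton]
    refine map_dvd (algebraMap k[X] M) ?_
    rw [dvd_iff_isRoot, IsRoot.def]
    simp
  obtain ⟨eM, -, -⟩ := QuotBasis.exists_basis (evalRingHom α) (Ideal.Quotient.mk IM)
    (fun c => ⟨C c, by simp⟩) Ideal.Quotient.mk_surjective hMk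
    (by rw [Ideal.mk_ker, hkerev, Ideal.map_span, Set.image_singleton]) (Module.Free.chooseBasis k[X] M)
  have hfinM : finrank k (M ⧸ IM) = finrank k[X] M := by
    rw [finrank_eq_card_basis eM, finrank_eq_card_basis (Module.Free.chooseBasis k[X] M)]
  haveI : FiniteDimensional k (M ⧸ IM) := Module.Finite.of_basis eM
  -- reduction of `M₁`
  let τ₁ : M₁ := algebraMap V M₁ τ
  let I₁ : Ideal M₁ := Ideal.span {τ₁}
  have hres : ∀ v : V, τ ∣ v - algebraMap k V (res α V v) := by
    intro v
    rw [← Ideal.mem_span_singleton, ← ker_res, RingHom.mem_ker, map_sub]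
    change res α V v - res α V (algebraMap k[X] V (C (res α V v))) = 0
    rw [res_algebraMap, eval_C, sub_self]
  have hM₁k : ∀ v : V, Ideal.Quotient.mk I₁ (algebraMap V M₁ v) = algebraMap k (M₁ ⧸ I₁) (res α V v) := by
    intro v
    rw [IsScalarTower.algebraMap_apply k M₁ (M₁ ⧸ I₁), Ideal.Quotient.algebraMap_eq, Ideal.Quotient.eq,
      IsScalarTower.algebraMap_apply k V M₁, ← map_sub, Ideal.mem_span_singleton]
    exact map_dvd (algebraMap V M₁) (hres v)
  obtain ⟨e₁, -, -⟩ := QuotBasis.exists_basis (res α V) (Ideal.Quotient.mk I₁)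
    (res_surjective α V) Ideal.Quotient.mk_surjective hM₁k
    (by rw [Ideal.mk_ker, ker_res, Ideal.map_span, Set.image_singleton]) (Module.Free.chooseBasis V M₁)
  have hfinM₁ : finrank k (M₁ ⧸ I₁) = finrank V M₁ := by
    rw [finrank_eq_card_basis e₁, finrank_eq_card_basis (Module.Free.chooseBasis V M₁)]
  haveI : FiniteDimensional k (M₁ ⧸ I₁) := Module.Finite.of_basis e₁
  -- the surjection from `M₀`
  let I₀ : Ideal M₀ := Ideal.span {algebraMap V M₀ τ}
  let σ : M₀ →ₐ[k] (M₁ ⧸ I₁) :=
    (Ideal.Quotient.mkₐ k I₁).comp (ψ₁.restrictScalars k)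
  have hσ0 : ∀ a ∈ I₀, σ a = 0 := by
    intro a ha
    obtain ⟨c, rfl⟩ := Ideal.mem_span_singleton'.1 ha
    rw [map_mul]
    have : σ (algebraMap V M₀ τ) = 0 := by
      change Ideal.Quotient.mk I₁ (ψ₁ (algebraMap V M₀ τ)) = 0
      rw [ψ₁.commutes, Ideal.Quotient.eq_zero_iff_mem]
      exact Ideal.subset_span rfl
    rw [this, mul_zero]
  let σ₁ : (M₀ ⧸ I₀) →ₐ[k] (M₁ ⧸ I₁) := Ideal.Quotient.liftₐ I₀ σ hσ0
  have hσ₁ : Function.Surjective σ₁ := by
    intro y
    obtain ⟨z, rfl⟩ := Ideal.Quotient.mk_surjective y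
    obtain ⟨x, rfl⟩ := hψ₁ z
    exact ⟨Ideal.Quotient.mk I₀ x, rfl⟩
  have hfinM₀ : FiniteDimensional k (M₀ ⧸ I₀) := by
    have h1 : Module.Finite V (M₀ ⧸ I₀) := inferInstance
    obtain ⟨s, hs⟩ := h1.fg_top
    refine ⟨⟨s, ?_⟩⟩
    rw [eq_top_iff]
    intro y _
    have hy : y ∈ Submodule.span V (s : Set (M₀ ⧸ I₀)) := by rw [hs]; trivial
    refine Submodule.span_induction (fun x hx => Submodule.subset_span hx) (Submodule.zero_mem _)
      (fun x y _ _ hx hy => Submodule.add_mem _ hx hy) (fun v x _ hx => ?_) hy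
    have h2 : v • x = (res α V v) • x := by
      obtain ⟨w, hw⟩ := hres v
      have h3 : (algebraMap V (M₀ ⧸ I₀) τ) = 0 := by
        rw [IsScalarTower.algebraMap_apply V M₀ (M₀ ⧸ I₀), Ideal.Quotient.algebraMap_eq,
          Ideal.Quotient.eq_zero_iff_mem]
        exact Ideal.subset_span rfl
      have h4 : algebraMap V (M₀ ⧸ I₀) v = algebraMap k (M₀ ⧸ I₀) (res α V v) := by
        have h5 : algebraMap k (M₀ ⧸ I₀) (res α V v) =
            algebraMap V (M₀ ⧸ I₀) (algebraMap k V (res α V v)) := by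
          rw [IsScalarTower.algebraMap_apply k M₀ (M₀ ⧸ I₀), IsScalarTower.algebraMap_apply V M₀ (M₀ ⧸ I₀),
            IsScalarTower.algebraMap_apply k V M₀]
        rw [h5, ← sub_eq_zero, ← map_sub, hw, map_mul, h3, zero_mul]
      rw [Algebra.smul_def, Algebra.smul_def, h4]
    rw [h2]
    exact Submodule.smul_mem _ _ hx
  have hnil : finrank k (nilradical (M₁ ⧸ I₁)) ≤ finrank k (nilradical (M₀ ⧸ I₀)) :=
    finrank_nilradical_le σ₁ hσ₁
  -- the common quotient
  let J : Ideal N := (Ideal.span {algebraMap V N τ}).radical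
  -- from `M`
  haveI : Algebra.IsIntegral k[X] M := Algebra.IsIntegral.of_finite k[X] M
  have hMN : ∀ x : M, algebraMap M κ x ∈ N := by
    intro x
    have h1 : IsIntegral k[X] (algebraMap M κ x) := (Algebra.IsIntegral.isIntegral (R := k[X]) x).algebraMap
    exact h1.tower_top
  let fM : M →+* N := (algebraMap M κ).codRestrict N.toSubring hMN
  let gM : M →+* (N ⧸ J) := (Ideal.Quotient.mk J).comp fM
  have hgMX : ∀ p : k[X], fM (algebraMap k[X] M p) = algebraMap V N (algebraMap k[X] V p) := by
    intro p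
    apply Subtype.ext
    change algebraMap M κ (algebraMap k[X] M p) = algebraMap V κ (algebraMap k[X] V p)
    rw [← IsScalarTower.algebraMap_apply, ← IsScalarTower.algebraMap_apply]
  have hgMk : ∀ c : k, gM (algebraMap k M c) = algebraMap k (N ⧸ J) c := by
    intro c
    rw [IsScalarTower.algebraMap_apply k k[X] M, IsScalarTower.algebraMap_apply k N (N ⧸ J),
      IsScalarTower.algebraMap_apply k V N]
    change Ideal.Quotient.mk J (fM (algebraMap k[X] M (C c))) = _
    rw [hgMX]
    rfl
  let gMa : M →ₐ[k] (N ⧸ J) := { gM with commutes' := hgMk }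
  -- elements of `N` times a polynomial not vanishing at `α` are in `M`
  have hclear : ∀ z : N, ∃ (p : k[X]) (x : M), p.eval α ≠ 0 ∧
      algebraMap V N (algebraMap k[X] V p) * z = fM x := by
    intro z
    obtain ⟨s, hs⟩ := IsIntegral.exists_multiple_integral_of_isLocalization
      (Ideal.span {(X - C α : k[X])}).primeCompl (z : κ) (z.2 : IsIntegral V (z : κ))
    have h1 : IsIntegral M ((s : k[X]) • (z : κ)) := hs.tower_top
    obtain ⟨x, hx⟩ := IsIntegrallyClosed.isIntegral_iff.1 h1
    refine ⟨s, x, eval_ne_zero α s.2, Subtype.ext ?_⟩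
    change algebraMap V κ (algebraMap k[X] V s) * (z : κ) = algebraMap M κ x
    rw [hx, ← IsScalarTower.algebraMap_apply, Algebra.smul_def]
  have hτJ : Ideal.Quotient.mk J (algebraMap V N τ) = 0 :=
    Ideal.Quotient.eq_zero_iff_mem.2 (Ideal.le_radical (Ideal.subset_span rfl))
  have hVJ : ∀ v : V, Ideal.Quotient.mk J (algebraMap V N v) = algebraMap k (N ⧸ J) (res α V v) := by
    intro v
    obtain ⟨w, hw⟩ := hres v
    rw [IsScalarTower.algebraMap_apply k N (N ⧸ J), Ideal.Quotient.algebraMap_eq,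
      IsScalarTower.algebraMap_apply k V N, ← sub_eq_zero, ← map_sub, ← map_sub, hw, map_mul, map_mul, hτJ,
      zero_mul]
  have hgMs : Function.Surjective gM := by
    intro y
    obtain ⟨z, rfl⟩ := Ideal.Quotient.mk_surjective y
    obtain ⟨p, x, hp, hx⟩ := hclear z
    refine ⟨algebraMap k M (p.eval α)⁻¹ * x, ?_⟩
    rw [map_mul, hgMk]
    change _ * Ideal.Quotient.mk J (fM x) = _
    rw [← hx, map_mul, hVJ, res_algebraMap, ← mul_assoc, ← map_mul, inv_mul_cancel₀ hp, map_one, one_mul]
  have hgMker : RingHom.ker gM = IM.radical := by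
    apply le_antisymm
    · intro x hx
      have h1 : fM x ∈ J := Ideal.Quotient.eq_zero_iff_mem.1 hx
      obtain ⟨n, hn⟩ := h1
      obtain ⟨w, hw⟩ := Ideal.mem_span_singleton'.1 hn
      obtain ⟨p, y, hp, hy⟩ := hclear w
      refine ⟨n, ?_⟩
      have h2 : algebraMap k[X] M p * x ^ n = y * algebraMap k[X] M (X - C α) := by
        apply hMκ
        have h3 : fM (algebraMap k[X] M p * x ^ n) = fM (y * algebraMap k[X] M (X - C α)) := by
          rw [map_mul, map_mul, hgMX, hgMX, map_pow, ← hy, ← hw]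
          ring
        exact congrArg (fun z : N => (z : κ)) h3
      have h4 : algebraMap k[X] M p * x ^ n ∈ IM := by
        rw [h2]
        exact Ideal.mul_mem_left _ _ (Ideal.subset_span rfl)
      have h5 : Ideal.Quotient.mk IM (algebraMap k[X] M p * x ^ n) = 0 := Ideal.Quotient.eq_zero_iff_mem.2 h4
      rw [map_mul, hMk] at h5
      have h6 : IsUnit (algebraMap k (M ⧸ IM) (p.eval α)) := (isUnit_iff_ne_zero.2 hp).map _
      exact Ideal.Quotient.eq_zero_iff_mem.1 (h6.mul_right_eq_zero.1 h5)
    · intro x hx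
      obtain ⟨n, hn⟩ := hx
      obtain ⟨w, hw⟩ := Ideal.mem_span_singleton'.1 hn
      rw [RingHom.mem_ker]
      change Ideal.Quotient.mk J (fM x) = 0
      rw [Ideal.Quotient.eq_zero_iff_mem]
      refine ⟨n, Ideal.mem_span_singleton'.2 ⟨fM w, ?_⟩⟩
      rw [← map_pow, ← hw, map_mul, hgMX]
  have hQfin : finrank k (M ⧸ IM.radical) = finrank k (N ⧸ J) := by
    have h1 : RingHom.ker gMa = IM.radical := hgMker
    have h2 := (Ideal.quotientKerAlgEquivOfSurjective (f := gMa) hgMs).toLinearEquiv.finrank_eq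
    rw [← h2]
    exact (Ideal.quotientEquivAlgOfEq k h1.symm).toLinearEquiv.finrank_eq
  haveI : FiniteDimensional k (N ⧸ J) := by
    have h1 : ∀ a ∈ IM, gMa a = 0 := by
      intro a ha
      have : a ∈ RingHom.ker gM := by
        rw [hgMker]
        exact Ideal.le_radical ha
      exact this
    refine Module.Finite.of_surjective (Ideal.Quotient.liftₐ IM gMa h1).toLinearMap ?_
    intro y
    obtain ⟨x, hx⟩ := hgMs y
    exact ⟨Ideal.Quotient.mk IM x, hx⟩
  -- from `M₁`
  have hM₁N : M₁ ≤ N := by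
    intro x hx
    have h1 : IsIntegral V (⟨x, hx⟩ : M₁) := Algebra.IsIntegral.isIntegral (R := V) _
    exact h1.algebraMap (B := κ)
  let f₁ : M₁ →ₐ[V] N := Subalgebra.inclusion hM₁N
  let g₁ : M₁ →ₐ[k] (N ⧸ J) := (Ideal.Quotient.mkₐ k J).comp (f₁.restrictScalars k)
  have hg₁0 : ∀ a ∈ I₁, g₁ a = 0 := by
    intro a ha
    obtain ⟨c, rfl⟩ := Ideal.mem_span_singleton'.1 ha
    rw [map_mul]
    have : g₁ τ₁ = 0 := hτJ
    rw [this, mul_zero]
  let h₁ : (M₁ ⧸ I₁) →ₐ[k] (N ⧸ J) := Ideal.Quotient.liftₐ I₁ g₁ hg₁0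
  have hker₁ : LinearMap.ker h₁.toLinearMap ≤ (nilradical (M₁ ⧸ I₁)).restrictScalars k := by
    intro y hy
    obtain ⟨z, rfl⟩ := Ideal.Quotient.mk_surjective y
    have h2 : Ideal.Quotient.mk J (f₁ z) = 0 := hy
    obtain ⟨n, hn⟩ := Ideal.Quotient.eq_zero_iff_mem.1 h2
    obtain ⟨w, hw⟩ := Ideal.mem_span_singleton'.1 hn
    have hzw : (z : κ) ^ n = algebraMap V κ τ * (w : κ) := by
      have h3 := congrArg (fun t : N => (t : κ)) hw
      have h4 : (w : κ) * algebraMap V κ τ = (z : κ) ^ n := h3
      rw [← h4, mul_comm]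
    obtain ⟨m, c, hc⟩ := exists_pow_mem V κ M₁ τ z (w : κ) w.2 n hzw
    have h5 : Ideal.Quotient.mk I₁ (z ^ m) = 0 := by
      rw [Ideal.Quotient.eq_zero_iff_mem, hc]
      exact Ideal.mul_mem_right _ _ (Ideal.subset_span rfl)
    refine ⟨m, ?_⟩
    rw [← map_pow, h5]
    exact Submodule.zero_mem _
  calc finrank k (M ⧸ IM) = finrank k (M₁ ⧸ I₁) := by rw [hfinM, hfinM₁, hrank]
    _ = finrank k (LinearMap.range h₁.toLinearMap) + finrank k (LinearMap.ker h₁.toLinearMap) :=
        (LinearMap.finrank_range_add_finrank_ker _).symm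
    _ ≤ finrank k (N ⧸ J) + finrank k (nilradical (M₁ ⧸ I₁)) :=
        add_le_add (Submodule.finrank_le _) (Submodule.finrank_mono hker₁)
    _ ≤ _ := by
        rw [hQfin]
        exact Nat.add_le_add_left hnil _

end Main

end K760.Compare
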