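import Groth.Agent.CurvSt.K760.SimpBC
import Groth.Agent.CurvSt.K310.ExistsCurve
import Groth.Agent.PicF.K247.SmoothGI
import Groth.Agent.Dix.ProjProper
import Mathlib.RingTheory.Smooth.Flat

/-!
# Degeneration of a smooth curve to a singular stable curve (S16736): the final assembly
-/

set_option autoImplicit false

universe u

open CategoryTheory CategoryTheory.Limits AlgebraicGeometry Polynomial IsLocalRing

namespace K760.Final

open Hurw

theorem final (hS : SimpleStmt.{u}) (hT : T1Stmt.{u}) (hP : P1BCStmt.{u}) (hFam : FamStmt.{u})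
    (hAsm : AsmStmt.{u}) (hBad : BadStmt.{u}) (hSt : StableRedStmt.{u})
    (k : Type u) [Field k] [IsAlgClosed k] [CharZero k] (X : Scheme.{u}) (q : X ⟶ Spec (CommRingCat.of k))
    [Smooth q] [IsProper q] [ConnectedSpace X] (hdim : topologicalKrullDim X = 1) (g : ℕ)
    (hg : @Curv2.genus k _ X ⟨q⟩ = g) (h2 : 2 ≤ g) :
    ∃ (T : Scheme.{u}) (p : T ⟶ Spec (CommRingCat.of k)) (s t : Spec (CommRingCat.of k) ⟶ T)
      (C : Scheme.{u}) (f : C ⟶ T) (i : X ⟶ C),
      Smooth p ∧ ConnectedSpace T ∧ topologicalKrullDim T = 1 ∧ s ≫ p = 𝟙 _ ∧ t ≫ p = 𝟙 _ ∧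
      CurvSt.IsStableFam f (fun j : Fin 0 => j.elim0) (fun j : Fin 0 => j.elim0) g ∧
      IsPullback i q f s ∧
      ∀ (Y : Scheme.{u}) (j : Y ⟶ C) (r : Y ⟶ Spec (CommRingCat.of k)), IsPullback j r f t → ¬ Smooth r := by
  have hXi : IsIntegral X := K247.SmoothGI.isIntegral_of_smooth q
  have hcurve : ModFun.IsCurveOfGenus g q :=
    K310.ExistsCurve.isCurveOfGenus_of_isSmoothProperCurve k ⟨inferInstance, inferInstance, hXi, hdim⟩ hg
  obtain ⟨F, r, b, hF, hsimp, hb0⟩ := hS k X q hdim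
  obtain ⟨R, _, _, _, _, _, _, ρ, 𝒳, Q, i, Φ, hΦf, hΦQ, hQs, hi, hgen⟩ := hT k X q hdim F r b hF hsimp
  have hPp : IsProper (CohB1.ProjSpace.toSpec 1 R) := Groth.Agent.Dix.ProjProper.isProper_toSpec 1 R
  have hQp : IsProper Q := by rw [← hΦQ]; infer_instance
  have hft : Algebra.FiniteType k[X] R := inferInstance
  have hN : IsNoetherianRing R := Algebra.FiniteType.isNoetherianRing k[X] R
  have hQg := hFam R k ρ.toRingHom 𝒳 Q X q i hi g hcurve
  have hflat : Module.Flat k[X] R := inferInstance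
  have htf : Module.IsTorsionFree k[X] R := inferInstance
  have hinj : Function.Injective (algebraMap k[X] R) :=
    Module.isTorsionFree_iff_algebraMap_injective.1 htf
  refine hAsm hSt k R ρ 𝒳 Q g hQg h2 X q i hi ?_
  rintro R' _ _ _ _ ρ' φ hφi hφk ⟨t, ht, hφX⟩ Y p _ _ hp Z a c z haz hcz
  obtain ⟨n, hn, hn0, -⟩ := hP R (FractionRing R') φ
  have hw : (c ≫ Φ) ≫ CohB1.ProjSpace.toSpec 1 R = z ≫ Spec.map (CommRingCat.ofHom φ) := by
    rw [Category.assoc, hΦQ, hcz.w]
  let Φ' : Z ⟶ CohB1.ProjSpace 1 (FractionRing R') := hn.lift (c ≫ Φ) z hw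
  have hΦ'n : Φ' ≫ n = c ≫ Φ := hn.lift_fst _ _ _
  have hΦ'z : Φ' ≫ CohB1.ProjSpace.toSpec 1 (FractionRing R') = z := hn.lift_snd _ _ _
  have hc : IsPullback c Φ' Φ n := by
    refine IsPullback.of_bot ?_ hΦ'n.symm hn
    rw [hΦ'z, hΦQ]
    exact hcz
  have hΦ'f : IsFinite Φ' := MorphismProperty.of_isPullback (P := @IsFinite) hc hΦf
  let K := FractionRing R
  let L := FractionRing R'
  let ψ : K →+* L := IsFractionRing.lift hφi
  let _ : Algebra K L := ψ.toAlgebra
  have hψ : ∀ x : R, φ x = algebraMap K L (algebraMap R K x) := fun x =>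
    (IsFractionRing.lift_algebraMap hφi x).symm
  have hsimp' := SimpBC.simpOn φ hψ Φ n hn0.w Φ' c hc
    (fun i => algebraMap R K (algebraMap k R (b i) * algebraMap k[X] R Polynomial.X ^ (i.1 + 1)))
    (fun B _ _ j hj => hgen K B j hj)
  have hb' : ∀ i : Fin r, algebraMap K L (algebraMap R K
      (algebraMap k R (b i) * algebraMap k[X] R Polynomial.X ^ (i.1 + 1))) =
      algebraMap R' L (algebraMap k R' (b i) * t ^ (i.1 + 1)) := by
    intro i
    rw [← hψ, map_mul, map_pow, hφk, hφX, map_mul, map_pow]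
  have ht0 : t ≠ 0 := by
    rintro rfl
    rw [map_zero] at hφX
    have h1 : algebraMap k[X] R Polynomial.X = 0 := hφi (by rw [hφX, map_zero])
    exact X_ne_zero (hinj (by rw [h1, map_zero]))
  have hk' : ∀ {c : k}, c ≠ 0 → algebraMap k R' c ≠ 0 := fun hc => by
    rwa [Ne, map_eq_zero]
  refine hBad k R' ρ' Y p g hp h2 L Z a z haz Φ' hΦ'z r _ hsimp' ?_ ?_
  · intro i
    rw [hb', Ne, map_eq_zero_iff _ (IsFractionRing.injective R' L)]
    exact mul_ne_zero (hk' (hb0 i)) (pow_ne_zero _ ht0)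
  · intro i j hij
    refine ⟨algebraMap k R' (b j / b i) * t ^ (j.1 - i.1), ?_, ?_⟩
    · refine Ideal.mul_mem_left _ _ (Ideal.pow_mem_of_mem _ ht _ ?_)
      exact Nat.sub_pos_of_lt hij
    · change algebraMap K L _ = _ * algebraMap K L _
      rw [hb', hb', ← map_mul]
      congr 1
      have h3 : b j = b j / b i * b i := (div_mul_cancel₀ _ (hb0 i)).symm
      have h4 : j.1 + 1 = (j.1 - i.1) + (i.1 + 1) := by
        have : i.1 < j.1 := hij
        omega
      conv_lhs => rw [h3, h4, pow_add, map_mul]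
      ring

end K760.Final
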