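import Groth.Agent.CurvSt.K760.Iface
import Mathlib.RingTheory.RegularLocalRing.Defs
import Mathlib.RingTheory.IntegralClosure.IntegrallyClosed

/-!
# Degeneration of a smooth curve (S16736): the nodes of the algebraic core `BadAlgStmt`
-/

set_option autoImplicit false

universe u

open Polynomial IsLocalRing

namespace K760.Hurw

/-- The map `R[x] → B`. -/
noncomputable def rx (R K B : Type u) [CommRing R] [Field K] [Algebra R K] [CommRing B] [Algebra K[X] B] :
    R[X] →+* B :=
  (algebraMap K[X] B).comp (Polynomial.mapRingHom (algebraMap R K))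

/-- (unramifiedness over the Gauss valuation) `ϖ` generates a radical ideal in the integral closure of `R[x]` in
`B`, localized at the prime `m_R R[x]`: if `g z² = ϖ w` with `g ∉ m_R R[x]` and `z`, `w` integral over `R[x]`, then
`g' z = ϖ w'` with `g' ∉ m_R R[x]` and `w'` integral. -/
def Unr (R K B : Type u) [CommRing R] [IsLocalRing R] [Field K] [Algebra R K] [CommRing B] [Algebra K[X] B]
    (ϖ : R) : Prop :=
  ∀ (z w : B) (g : R[X]), (rx R K B).IsIntegralElem z → (rx R K B).IsIntegralElem w →
    g.map (residue R) ≠ 0 → rx R K B g * z ^ 2 = rx R K B (C ϖ) * w →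
    ∃ (w' : B) (g' : R[X]), (rx R K B).IsIntegralElem w' ∧ g'.map (residue R) ≠ 0 ∧
      rx R K B g' * z = rx R K B (C ϖ) * w'

/-- (BA1) a discrete valuation ring `O` of an algebraic extension `E` of `K(x)` with the same uniformizer as `R` and
with residue field transcendental over `k` induces a Gauss valuation on `K(x)`. -/
def GaussStmt : Prop :=
  ∀ (k : Type u) [Field k] [IsAlgClosed k] (R : Type u) [CommRing R] [IsDomain R] [IsDiscreteValuationRing R]
    [Algebra k R] (_ : R →ₐ[k] k) (K : Type u) [Field K] [Algebra R K] [IsFractionRing R K]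
    (E : Type u) [Field E] [Algebra K E] (x : E), Transcendental K x →
    (∀ y : E, IsAlgebraic (IntermediateField.adjoin K {x}) y) →
    ∀ (O : Type u) [CommRing O] [IsDomain O] [IsDiscreteValuationRing O] [Algebra k O] [Algebra R O]
      [IsScalarTower k R O] [Algebra O E] [IsFractionRing O E],
      (∀ a : R, algebraMap O E (algebraMap R O a) = algebraMap K E (algebraMap R K a)) →
      (maximalIdeal R).map (algebraMap R O) = maximalIdeal O →
      (∃ y : ResidueField O, Transcendental k y) →
    ∃ (a c : K) (u : O), c ≠ 0 ∧ algebraMap K E c * algebraMap O E u = x - algebraMap K E a ∧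
      Transcendental k (residue O u)

/-- (BA2) after adjoining a root of the uniformizer the cover becomes unramified over the Gauss valuation. -/
def RamKillStmt : Prop :=
  ∀ (k : Type u) [Field k] [IsAlgClosed k] [CharZero k]
    (R : Type u) [CommRing R] [IsDomain R] [IsDiscreteValuationRing R] [Algebra k R] (_ : R →ₐ[k] k)
    (K : Type u) [Field K] [Algebra R K] [IsFractionRing R K]
    (B : Type u) [CommRing B] [IsDomain B] [Algebra K[X] B] (r : ℕ) (b : Fin r → K), IsSimp K b B →
    ∀ (O : Type u) [CommRing O] [IsDomain O] [IsDiscreteValuationRing O] [Algebra k O] [Algebra R O]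
      [IsScalarTower k R O], (maximalIdeal R).map (algebraMap R O) = maximalIdeal O →
    ∀ (E : Type u) [Field E] [Algebra B E] [IsFractionRing B E] [Algebra O E] [IsFractionRing O E],
      (∀ a : R, algebraMap O E (algebraMap R O a) =
        algebraMap B E (algebraMap K[X] B (C (algebraMap R K a)))) →
    ∀ (u : O), algebraMap O E u = algebraMap B E (algebraMap K[X] B X) → Transcendental k (residue O u) →
    ∃ (R' : Type u) (_ : CommRing R') (_ : IsDomain R') (_ : IsDiscreteValuationRing R') (_ : Algebra k R')
      (_ : R' →ₐ[k] k) (φ : R →ₐ[k] R') (_ : Function.Injective φ) (_ : IsLocalHom φ.toRingHom)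
      (K' : Type u) (_ : Field K') (_ : Algebra R' K') (_ : IsFractionRing R' K') (ψ : K →+* K')
      (_ : ∀ a : R, ψ (algebraMap R K a) = algebraMap R' K' (φ a))
      (B' : Type u) (_ : CommRing B') (_ : IsDomain B') (_ : Algebra K'[X] B')
      (O' : Type u) (_ : CommRing O') (_ : IsDomain O') (_ : IsDiscreteValuationRing O') (_ : Algebra k O')
      (_ : Algebra R' O') (_ : IsScalarTower k R' O')
      (E' : Type u) (_ : Field E') (_ : Algebra B' E') (_ : IsFractionRing B' E') (_ : Algebra O' E')
      (_ : IsFractionRing O' E') (u' : O') (ε : ResidueField O ≃ₐ[k] ResidueField O') (ϖ : R'),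
      IsSimp K' (fun i => ψ (b i)) B' ∧ (maximalIdeal R').map (algebraMap R' O') = maximalIdeal O' ∧
      (∀ a : R', algebraMap O' E' (algebraMap R' O' a) =
        algebraMap B' E' (algebraMap K'[X] B' (C (algebraMap R' K' a)))) ∧
      algebraMap O' E' u' = algebraMap B' E' (algebraMap K'[X] B' X) ∧
      ε (residue O u) = residue O' u' ∧ maximalIdeal R' = Ideal.span {ϖ} ∧ Unr R' K' B' ϖ

/-- (F1) normal finite extensions of two-dimensional regular local domains are free. -/
def FreeStmt : Prop :=
  ∀ (A : Type u) [CommRing A] [IsDomain A] [IsRegularLocalRing A], ringKrullDim A = 2 →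
    ∀ (F : Type u) [Field F] [Algebra A F] [IsFractionRing A F] (E : Type u) [Field E] [Algebra F E]
      [Algebra A E] [IsScalarTower A F E] [FiniteDimensional F E] [Algebra.IsSeparable F E]
      (N : Type u) [CommRing N] [Algebra A N] [Algebra N E] [IsScalarTower A N E] [IsIntegralClosure N A E],
      Module.Finite A N ∧ Module.Free A N

/-- (F3) the discriminant of a finite free algebra is divisible by `ϖ ^ c`, `c` the dimension of the nilradical of
the algebra modulo `ϖ`. -/
def DiscNilStmt : Prop :=
  ∀ (V : Type u) [CommRing V] (ϖ : V) (κ : Type u) [Field κ] (ρ : V →+* κ), Function.Surjective ρ →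
    RingHom.ker ρ = Ideal.span {ϖ} →
    ∀ (M : Type u) [CommRing M] [Algebra V M] [Module.Finite V M] [Module.Free V M]
      (M₀ : Type u) [CommRing M₀] [Algebra κ M₀] (π : M →+* M₀), Function.Surjective π →
      (∀ a : V, π (algebraMap V M a) = algebraMap κ M₀ (ρ a)) →
      RingHom.ker π = Ideal.span {algebraMap V M ϖ} →
    ϖ ^ (Module.finrank κ (nilradical M₀)) ∣ Algebra.discr V (Module.Free.chooseBasis V M)

/-- (BA3) the local computation: if the cover is unramified over the Gauss valuation, the number of points of the
cover of the special fibre over `α` is at least the degree minus the number `m α` of branch points reducing to `α`. -/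
def LocalStmt : Prop :=
  ∀ (k : Type u) [Field k] [IsAlgClosed k] [CharZero k]
    (R : Type u) [CommRing R] [IsDomain R] [IsDiscreteValuationRing R] [Algebra k R] (ρ : R →ₐ[k] k)
    (K : Type u) [Field K] [Algebra R K] [IsFractionRing R K]
    (B : Type u) [CommRing B] [IsDomain B] [Algebra K[X] B] (r : ℕ) (b : Fin r → K), IsSimp K b B →
    ∀ (O : Type u) [CommRing O] [IsDomain O] [IsDiscreteValuationRing O] [Algebra k O] [Algebra R O]
      [IsScalarTower k R O], (maximalIdeal R).map (algebraMap R O) = maximalIdeal O →
    ∀ (E : Type u) [Field E] [Algebra B E] [IsFractionRing B E] [Algebra O E] [IsFractionRing O E],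
      (∀ a : R, algebraMap O E (algebraMap R O a) =
        algebraMap B E (algebraMap K[X] B (C (algebraMap R K a)))) →
    ∀ (u : O), algebraMap O E u = algebraMap B E (algebraMap K[X] B X) → Transcendental k (residue O u) →
    ∀ (ϖ : R), maximalIdeal R = Ideal.span {ϖ} → Unr R K B ϖ →
    ∀ (m : k → ℕ), (∀ α, Nat.card {i // ∃ c : R, algebraMap R K c = b i ∧ ρ c = α} ≤ m α) →
    ∀ (M : Type u) [CommRing M] [IsDomain M] [IsIntegrallyClosed M] [Algebra k M] [Algebra k[X] M]
      [IsScalarTower k k[X] M] [Algebra M (ResidueField O)] [IsFractionRing M (ResidueField O)]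
      [IsScalarTower k M (ResidueField O)], Module.Finite k[X] M →
      algebraMap M (ResidueField O) (algebraMap k[X] M X) = residue O u →
      ∀ α : k, Module.finrank k (M ⧸ Ideal.span {algebraMap k[X] M (X - C α)}) ≤
        Module.finrank k (M ⧸ (Ideal.span {algebraMap k[X] M (X - C α)}).radical) + m α

end K760.Hurw
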