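import Groth.Agent.CurvSt.K760.SimpBasic
import Groth.Agent.An.H526.T3Gen
import Groth.Agent.S2195
import Mathlib.RingTheory.DiscreteValuationRing.Basic

/-!
# Discriminants for the local computation
-/

set_option autoImplicit false
set_option linter.style.haveILetI false

universe u

open Polynomial Module IsLocalRing
open scoped nonZeroDivisors Matrix

namespace K760.LDisc

/-- The discriminant of a reduced finite free algebra over a domain of characteristic zero is not zero. -/
theorem discr_ne_zero_of_isReduced {V M : Type*} [CommRing V] [IsDomain V] [CharZero V] [CommRing M] [Algebra V M]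
    [IsReduced M] {ι : Type*} [Fintype ι] [DecidableEq ι] (e : Basis ι V M) : Algebra.discr V e ≠ 0 := by
  classical
  have hfin : Module.Finite V M := Module.Finite.of_basis e
  let L := FractionRing V
  let ML := Localization (Algebra.algebraMapSubmonoid M V⁰)
  haveI : CharZero L := charZero_of_injective_algebraMap (IsFractionRing.injective V L)
  let eL : Basis ι L ML := e.localizationLocalization L V⁰ ML
  haveI : Module.Finite L ML := Module.Finite.of_basis eL
  haveI : IsReduced ML := inferInstance
  have hfe : Algebra.FormallyEtale L ML := Groth.Agent.An.H526.T3.formallyEtale_of_isReduced_finite L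
  have hfp : Algebra.FinitePresentation L ML := Algebra.FinitePresentation.of_finiteType.1 inferInstance
  have het : Algebra.Etale L ML := { formallyEtale := hfe, finitePresentation := hfp }
  let e' : Basis (Fin (Fintype.card ι)) L ML := eL.reindex (Fintype.equivFin ι)
  have h1 : IsUnit (Algebra.discr L e') := (Groth.Agent.S2195.result e').1 het
  have h2 : Algebra.discr L e' = Algebra.discr L eL := by
    rw [Basis.coe_reindex]
    exact Algebra.discr_reindex L eL (Fintype.equivFin ι)
  have h3 : Algebra.discr L eL = algebraMap V L (Algebra.discr V e) :=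
    Algebra.discr_localizationLocalization V V⁰ ML e
  intro h
  rw [h2, h3, h, map_zero] at h1
  exact not_isUnit_zero h1

/-- Cancelling a power of a prime element. -/
theorem dvd_of_prime {A : Type*} [CommRing A] [IsDomain A] {ϖ D q : A} (hp : Prime ϖ) (hD : ¬ ϖ ∣ D) (m : ℕ)
    (h : D ∣ ϖ ^ m * q) : D ∣ q := by
  induction m with
  | zero => simpa using h
  | succ m ih =>
    apply ih
    obtain ⟨y, hy⟩ := h
    have h1 : ϖ ∣ D * y := by
      rw [← hy, pow_succ', mul_assoc]
      exact dvd_mul_right _ _
    obtain ⟨y', rfl⟩ := (hp.dvd_or_dvd h1).resolve_left hD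
    refine ⟨y', ?_⟩
    apply mul_left_cancel₀ hp.ne_zero
    rw [← mul_assoc, ← pow_succ', hy]
    ring

/-- Scaling a family multiplies the discriminant. -/
theorem discr_smul {L E : Type*} [Field L] [CommRing E] [Algebra L E] {ι : Type*} [Fintype ι] [DecidableEq ι]
    (s : L) (e : ι → E) :
    Algebra.discr L (fun i => s • e i) = (s ^ Fintype.card ι) ^ 2 * Algebra.discr L e := by
  have := Algebra.discr_of_matrix_mulVec (A := L) e (Matrix.diagonal fun _ => s)
  rw [Matrix.det_diagonal, Finset.prod_const, Finset.card_univ] at this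
  rw [← this]
  congr 1
  funext i
  rw [Matrix.diagonal_map (map_zero _), Matrix.mulVec_diagonal, Algebra.smul_def]

section Compare

variable {A N F E : Type*} [CommRing A] [IsDomain A] [CommRing N] [Algebra A N] [Field F] [Algebra A F]
  [IsFractionRing A F] [Field E] [Algebra F E] [Algebra A E] [IsScalarTower A F E] [Algebra N E]
  [IsScalarTower A N E] [IsIntegralClosure N A E] [FiniteDimensional F E] {ι ι' : Type*} [Fintype ι]
  [DecidableEq ι] [Fintype ι'] [DecidableEq ι']

/-- The discriminant of a basis of integral elements is a multiple of the discriminant of the ring of integers. -/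
theorem exists_discr_eq (e : Basis ι A N) (b : Basis ι' F E) (v : ι' → E) (hv : ∀ i, IsIntegral A (v i)) :
    ∃ a : A, Algebra.discr F v = algebraMap A F (a * Algebra.discr A e) := by
  haveI : IsLocalization (Algebra.algebraMapSubmonoid N A⁰) E := IsIntegralClosure.isLocalization A F E N
  let eE : Basis ι F E := e.localizationLocalization F A⁰ E
  let e0 : ι ≃ ι' := eE.indexEquiv b
  let e' : Basis ι' A N := e.reindex e0
  let eE' : Basis ι' F E := eE.reindex e0
  have heE' : ∀ i, eE' i = algebraMap N E (e' i) := by
    intro i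
    simp only [eE', e', eE, Basis.reindex_apply, Basis.localizationLocalization_apply]
  have h1 : Algebra.discr F eE' = algebraMap A F (Algebra.discr A e) := by
    have h3 : Algebra.discr F eE' = Algebra.discr F eE := by
      rw [Basis.coe_reindex]
      exact Algebra.discr_reindex F eE e0
    rw [h3]
    exact Algebra.discr_localizationLocalization A A⁰ E e
  choose w hw using fun i => (IsIntegralClosure.isIntegral_iff (A := N)).1 (hv i)
  let P : Matrix ι' ι' A := e'.toMatrix w
  have hP : ∀ i, v i = ∑ l, algebraMap A E (P l i) * eE' l := by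
    intro i
    have h := congrArg (algebraMap N E) (e'.sum_repr (w i))
    rw [hw, map_sum] at h
    rw [← h]
    refine Finset.sum_congr rfl fun l _ => ?_
    rw [Algebra.smul_def, map_mul, heE', ← IsScalarTower.algebraMap_apply]
    rfl
  refine ⟨P.det ^ 2, ?_⟩
  have h5 : (fun i => v i) = (fun i => eE' i) ᵥ* (P.map (algebraMap A F)).map (algebraMap F E) := by
    funext i
    rw [Matrix.vecMul, dotProduct, hP i]
    refine Finset.sum_congr rfl fun l _ => ?_
    rw [Matrix.map_apply, Matrix.map_apply, ← IsScalarTower.algebraMap_apply, mul_comm]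
  rw [show Algebra.discr F v = Algebra.discr F (fun i => v i) from rfl, h5,
    Algebra.discr_of_matrix_vecMul, h1, ← RingHom.mapMatrix_apply, ← RingHom.map_det, map_mul, map_pow]

end Compare

section Line

variable {R K : Type*} [CommRing R] [IsDomain R] [IsDiscreteValuationRing R] [Field K] [Algebra R K]
  [IsFractionRing R K]

/-- An integral multiple of `X - b`. -/
theorem exists_lin (b : K) : ∃ (q : R) (p : R[X]), q ≠ 0 ∧
    C (algebraMap R K q) * (X - C b) = p.map (algebraMap R K) ∧
    ((∃ c : R, algebraMap R K c = b ∧ p = X - C c) ∨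
      ((∀ c : R, algebraMap R K c ≠ b) ∧ ∃ c ∈ maximalIdeal R, p = C c * X - 1)) := by
  by_cases h : ∃ c : R, algebraMap R K c = b
  · obtain ⟨c, rfl⟩ := h
    exact ⟨1, X - C c, one_ne_zero, by simp, Or.inl ⟨c, rfl, rfl⟩⟩
  · push Not at h
    rcases ValuationRing.isInteger_or_isInteger R b with ⟨c, hc⟩ | ⟨c, hc⟩
    · exact absurd hc (h c)
    · have hb : b ≠ 0 := fun h0 => h 0 (by rw [h0, map_zero])
      have hc0 : c ≠ 0 := by
        rintro rfl
        rw [map_zero] at hc
        exact hb (inv_eq_zero.1 hc.symm)
      refine ⟨c, C c * X - 1, hc0, ?_, Or.inr ⟨h, c, ?_, rfl⟩⟩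
      · rw [mul_sub, ← C_mul, hc, inv_mul_cancel₀ hb]
        simp [hc]
      · rw [mem_maximalIdeal, mem_nonunits_iff]
        intro hu
        obtain ⟨w, hw⟩ := hu.exists_left_inv
        refine h w ?_
        have h1 : algebraMap R K w * b⁻¹ = 1 := by rw [← hc, ← map_mul, hw, map_one]
        rw [← mul_one (algebraMap R K w), ← inv_mul_cancel₀ hb, ← mul_assoc, h1, one_mul]

/-- Clearing denominators. -/
theorem exists_clear (h : K[X]) : ∃ (t : R) (g : R[X]), t ≠ 0 ∧
    C (algebraMap R K t) * h = g.map (algebraMap R K) := by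
  obtain ⟨t, ht, h1⟩ := IsLocalization.integerNormalization_spec R⁰ h
  refine ⟨t, IsLocalization.integerNormalization R⁰ h, nonZeroDivisors.ne_zero ht, ?_⟩
  rw [h1, Algebra.smul_def]
  rfl

variable {B E F A N : Type*} [CommRing B] [Algebra K[X] B] [Field F] [Algebra K[X] F]
  [IsFractionRing K[X] F] [Field E] [Algebra B E] [IsDomain B] [IsFractionRing B E] [Algebra F E] [Algebra K[X] E]
  [IsScalarTower K[X] B E] [IsScalarTower K[X] F E] [FiniteDimensional F E]
  [CommRing A] [IsDomain A] [Algebra R[X] A] [Algebra A F] [IsFractionRing A F]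
  [Algebra A E] [IsScalarTower A F E] [CommRing N] [Algebra A N] [Algebra N E] [IsScalarTower A N E]
  [IsIntegralClosure N A E]

attribute [local instance] Polynomial.algebra in
omit [IsFractionRing K[X] F] [FiniteDimensional F E] [IsDomain A] [IsFractionRing A F] in
/-- Elements integral over `K[x]` have integral multiples. -/
theorem exists_integral_smul
    (hA : ∀ p : R[X], algebraMap A F (algebraMap R[X] A p) = algebraMap K[X] F (p.map (algebraMap R K)))
    (x : E) (hx : IsIntegral K[X] x) :
    ∃ t : R, t ≠ 0 ∧ IsIntegral A (algebraMap K[X] E (C (algebraMap R K t)) * x) := by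
  letI : Algebra R[X] E := ((algebraMap K[X] E).comp (mapRingHom (algebraMap R K))).toAlgebra
  haveI : IsScalarTower R[X] K[X] E := IsScalarTower.of_algebraMap_eq fun _ => rfl
  haveI : IsScalarTower R[X] A E := IsScalarTower.of_algebraMap_eq fun p => by
    rw [IsScalarTower.algebraMap_apply A F E, hA, ← IsScalarTower.algebraMap_apply]
    rfl
  haveI : IsLocalization (Submonoid.map C R⁰) K[X] := Polynomial.isLocalization R⁰ K
  obtain ⟨⟨_, t, ht, rfl⟩, hm⟩ := IsIntegral.exists_multiple_integral_of_isLocalization
    (Rₘ := K[X]) (Submonoid.map C R⁰) x hx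
  refine ⟨t, nonZeroDivisors.ne_zero ht, ?_⟩
  have h1 : IsIntegral R[X] (algebraMap K[X] E (C (algebraMap R K t)) * x) := by
    rw [Submonoid.smul_def, Algebra.smul_def] at hm
    have h2 : algebraMap R[X] E (C t) = algebraMap K[X] E (C (algebraMap R K t)) := by
      change algebraMap K[X] E ((C t).map (algebraMap R K)) = _
      rw [map_C]
    rw [← h2]
    exact hm
  exact h1.tower_top

variable {ι κ : Type*} [Fintype κ] [DecidableEq κ] [Fintype ι] [DecidableEq ι]

variable (E) in
include E in
/-- The discriminant of the ring of integers divides the product of the linear forms, up to a constant. -/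
theorem exists_dvd {r : ℕ} {b : Fin r → K} (f : Basis κ K[X] B)
    (hf : Algebra.discr K[X] f ∣ ∏ i, (X - C (b i)))
    (hA : ∀ p : R[X], algebraMap A F (algebraMap R[X] A p) = algebraMap K[X] F (p.map (algebraMap R K)))
    (e : Basis ι A N) :
    ∃ (s : R) (p : Fin r → R[X]), s ≠ 0 ∧
      (∀ i, (∃ c : R, algebraMap R K c = b i ∧ p i = X - C c) ∨
        ((∀ c : R, algebraMap R K c ≠ b i) ∧ ∃ c ∈ maximalIdeal R, p i = C c * X - 1)) ∧
      Algebra.discr A e ∣ algebraMap R[X] A (C s * ∏ i, p i) := by
  classical
  haveI : Module.Finite K[X] B := Module.Finite.of_basis f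
  haveI : Module.Free K[X] B := Module.Free.of_basis f
  have hBint : Algebra.IsIntegral K[X] B := Algebra.IsIntegral.of_finite K[X] B
  haveI : FaithfulSMul K[X] B := by
    rw [faithfulSMul_iff_algebraMap_injective]
    exact (Module.isTorsionFree_iff_algebraMap_injective).1 inferInstance
  haveI hloc : IsLocalization (Algebra.algebraMapSubmonoid B K[X]⁰) E := inferInstance
  let fE : Basis κ F E := f.localizationLocalization F K[X]⁰ E
  choose t ht0 ht using fun i : κ => exists_integral_smul (R := R) (A := A) hA (algebraMap B E (f i))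
    ((Algebra.IsIntegral.isIntegral (R := K[X]) (f i)).algebraMap)
  let T : R := ∏ i, t i
  have hT : T ≠ 0 := Finset.prod_ne_zero_iff.2 fun i _ => ht0 i
  let c : F := algebraMap K[X] F (C (algebraMap R K T))
  have hcE : algebraMap F E c = algebraMap K[X] E (C (algebraMap R K T)) :=
    (IsScalarTower.algebraMap_apply _ _ _ _).symm
  have hv : ∀ i, IsIntegral A (c • fE i) := by
    intro i
    rw [Algebra.smul_def, hcE, Basis.localizationLocalization_apply]
    obtain ⟨y, hy⟩ : t i ∣ T := Finset.dvd_prod_of_mem t (Finset.mem_univ i)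
    rw [hy, map_mul, C_mul, map_mul, mul_comm (algebraMap K[X] E (C (algebraMap R K (t i)))), mul_assoc]
    refine IsIntegral.mul ?_ (ht i)
    have h1 : algebraMap K[X] E (C (algebraMap R K y)) = algebraMap A E (algebraMap R[X] A (C y)) := by
      rw [IsScalarTower.algebraMap_apply A F E, hA, map_C, ← IsScalarTower.algebraMap_apply]
    rw [h1]
    exact isIntegral_algebraMap
  obtain ⟨a, ha⟩ := exists_discr_eq e fE (fun i => c • fE i) hv
  rw [discr_smul] at ha
  have h2 : Algebra.discr F fE = algebraMap K[X] F (Algebra.discr K[X] f) :=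
    Algebra.discr_localizationLocalization K[X] K[X]⁰ E f
  rw [show Algebra.discr F (fun i => fE i) = Algebra.discr F fE from rfl, h2] at ha
  obtain ⟨h, hh⟩ := hf
  obtain ⟨s₀, g, hs₀, hg⟩ := exists_clear (R := R) h
  choose q p hq hqp hp using fun i => exists_lin (R := R) (b i)
  refine ⟨(T ^ Fintype.card κ) ^ 2 * s₀, p, mul_ne_zero (pow_ne_zero _ (pow_ne_zero _ hT)) hs₀, hp, ?_⟩
  have hinj : Function.Injective (algebraMap A F) := IsFractionRing.injective A F
  refine ⟨a * algebraMap R[X] A (g * C (∏ i, q i)), ?_⟩
  apply hinj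
  have h3 : (C (∏ i, q i) : R[X]).map (algebraMap R K) * ∏ i, (X - C (b i)) =
      (∏ i, p i).map (algebraMap R K) := by
    rw [Polynomial.map_prod, map_C, map_prod, C_eq_algebraMap, map_prod, ← Finset.prod_mul_distrib]
    exact Finset.prod_congr rfl fun i _ => by rw [← C_eq_algebraMap]; exact hqp i
  rw [hA, Polynomial.map_mul, ← h3, hh,
    show Algebra.discr A e * (a * algebraMap R[X] A (g * C (∏ i, q i))) =
      (a * Algebra.discr A e) * algebraMap R[X] A (g * C (∏ i, q i)) by ring,
    map_mul (algebraMap A F), ← ha, hA, Polynomial.map_mul, ← hg]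
  simp only [Polynomial.map_mul, Polynomial.map_pow, map_mul, map_pow, map_C, c]
  ring

end Line

end K760.LDisc
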