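import Groth.Agent.CurvSt.K760.Compare
import Groth.Agent.CalgA.RegBasic
import Mathlib.RingTheory.KrullDimension.Regular

/-!
# The local rings of the affine line over a discrete valuation ring at the points of the special fibre
-/

set_option autoImplicit false
set_option linter.style.haveILetI false

universe u

open Polynomial Module IsLocalRing
open scoped nonZeroDivisors

namespace K760.Surf

section LocQuot

variable {R₁ P₁ : Type*} [CommRing R₁] [CommRing P₁] (f : R₁ →+* P₁) (hf : Function.Surjective f) (c : R₁)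
  (hc : RingHom.ker f = Ideal.span {c}) (I : Ideal R₁) [I.IsPrime] (J : Ideal P₁) [J.IsPrime]
  (hIJ : I = J.comap f)

include hf in
theorem localRingHom_surjective : Function.Surjective (Localization.localRingHom I J f hIJ) := by
  intro v
  obtain ⟨p, s, rfl⟩ := IsLocalization.exists_mk'_eq J.primeCompl v
  obtain ⟨p', rfl⟩ := hf p
  obtain ⟨s', hs'⟩ := hf s
  have hs'' : s' ∈ I.primeCompl := by
    intro h
    have h' : f s' ∈ J := by rw [hIJ] at h; exact h
    rw [hs'] at h'
    exact s.2 h'
  refine ⟨IsLocalization.mk' _ p' (⟨s', hs''⟩ : I.primeCompl), ?_⟩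
  rw [Localization.localRingHom_mk']
  congr 1
  exact Subtype.ext hs'

include hf hc in
theorem ker_localRingHom : RingHom.ker (Localization.localRingHom I J f hIJ) =
    Ideal.span {algebraMap R₁ (Localization.AtPrime I) c} := by
  apply le_antisymm
  · intro a ha
    obtain ⟨p, s, rfl⟩ := IsLocalization.exists_mk'_eq I.primeCompl a
    rw [RingHom.mem_ker, Localization.localRingHom_mk', IsLocalization.mk'_eq_zero_iff] at ha
    obtain ⟨t, ht⟩ := ha
    obtain ⟨t', ht'⟩ := hf t
    have ht'' : t' ∈ I.primeCompl := by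
      intro h
      have h' : f t' ∈ J := by rw [hIJ] at h; exact h
      rw [ht'] at h'
      exact t.2 h'
    have h1 : t' * p ∈ RingHom.ker f := by
      rw [RingHom.mem_ker, map_mul, ht']
      exact ht
    rw [hc] at h1
    obtain ⟨y, hy⟩ := Ideal.mem_span_singleton'.1 h1
    rw [Ideal.mem_span_singleton']
    refine ⟨IsLocalization.mk' _ y (⟨t', ht''⟩ * s : I.primeCompl), ?_⟩
    rw [mul_comm, IsLocalization.mul_mk'_eq_mk'_of_mul, IsLocalization.mk'_eq_iff_eq]
    congr 1
    change (s : R₁) * (c * y) = t' * s * p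
    rw [mul_comm c y, hy]
    ring
  · rw [Ideal.span_le]
    rintro _ rfl
    change Localization.localRingHom I J f hIJ _ = 0
    rw [Localization.localRingHom_to_map]
    have : f c = 0 := by
      have : c ∈ RingHom.ker f := by rw [hc]; exact Ideal.subset_span rfl
      exact this
    rw [this, map_zero]

end LocQuot

section Line

variable {k R : Type*} [Field k] [CommRing R] [IsDomain R] [IsDiscreteValuationRing R] (ρ : R →+* k)
  (hρ : Function.Surjective ρ) {ϖ : R} (hϖ : maximalIdeal R = Ideal.span {ϖ}) (α : k)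

/-- The prime of the point `x = α` of the special fibre. -/
noncomputable abbrev pr : Ideal R[X] := (Ideal.span {(X - C α : k[X])}).comap (mapRingHom ρ)

instance isPrime_span : (Ideal.span {(X - C α : k[X])}).IsPrime :=
  (Ideal.span_singleton_prime (X_sub_C_ne_zero α)).2 (prime_X_sub_C α)

instance : (pr ρ α).IsPrime := Ideal.IsPrime.comap _

include hρ hϖ in
theorem ker_rho : RingHom.ker ρ = Ideal.span {ϖ} := by
  have h : (RingHom.ker ρ).IsMaximal := RingHom.ker_isMaximal_of_surjective ρ hρ
  rw [IsLocalRing.eq_maximalIdeal h, hϖ]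

include hρ hϖ in
theorem ker_mapRingHom : RingHom.ker (mapRingHom ρ) = Ideal.span {(C ϖ : R[X])} := by
  rw [Polynomial.ker_mapRingHom, ker_rho ρ hρ hϖ, Ideal.map_span, Set.image_singleton]

omit [IsDomain R] [IsDiscreteValuationRing R] in
theorem map_surjective' (hρ : Function.Surjective ρ) : Function.Surjective (mapRingHom ρ) :=
  Polynomial.map_surjective ρ hρ

/-- The local ring of the affine line over `R` at the point. -/
noncomputable abbrev LA : Type _ := Localization.AtPrime (pr ρ α)

/-- The local ring of the special fibre. -/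
noncomputable abbrev LV : Type _ := Localization.AtPrime (Ideal.span {(X - C α : k[X])})

/-- The reduction. -/
noncomputable abbrev red : LA ρ α →+* LV α :=
  Localization.localRingHom (pr ρ α) (Ideal.span {(X - C α : k[X])}) (mapRingHom ρ) rfl

theorem red_surjective (hρ : Function.Surjective ρ) : Function.Surjective (red ρ α) :=
  localRingHom_surjective _ (map_surjective' ρ hρ) _ _ rfl

include hρ hϖ in
theorem ker_red : RingHom.ker (red ρ α) = Ideal.span {algebraMap R[X] (LA ρ α) (C ϖ)} :=
  ker_localRingHom _ (map_surjective' ρ hρ) _ (ker_mapRingHom ρ hρ hϖ) _ _ rfl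

include hϖ in
theorem pi_ne_zero : ϖ ≠ 0 := by
  rintro rfl
  rw [Ideal.span_singleton_eq_bot.2 rfl] at hϖ
  exact IsDiscreteValuationRing.not_a_field R hϖ

instance : IsDomain (LA ρ α) := inferInstance
instance : IsNoetherianRing (LA ρ α) := inferInstance

theorem dvr_LV : IsDiscreteValuationRing (LV α) :=
  IsLocalization.AtPrime.isDiscreteValuationRing_of_dedekind_domain k[X]
    (by rw [Ne, Ideal.span_singleton_eq_bot]; exact X_sub_C_ne_zero α) (LV α)

include hρ hϖ in
theorem pi_mem : algebraMap R[X] (LA ρ α) (C ϖ) ∈ maximalIdeal (LA ρ α) := by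
  rw [IsLocalization.AtPrime.to_map_mem_maximal_iff (LA ρ α) (pr ρ α), Ideal.mem_comap]
  have : mapRingHom ρ (C ϖ) = 0 := by
    have h : (C ϖ : R[X]) ∈ RingHom.ker (mapRingHom ρ) := by
      rw [ker_mapRingHom ρ hρ hϖ]
      exact Ideal.subset_span rfl
    exact h
  rw [this]
  exact Ideal.zero_mem _

include hϖ in
theorem pi_ne_zero' : algebraMap R[X] (LA ρ α) (C ϖ) ≠ 0 := by
  rw [Ne, IsLocalization.to_map_eq_zero_iff (LA ρ α) (Ideal.primeCompl_le_nonZeroDivisors (pr ρ α)), C_eq_zero]
  exact pi_ne_zero hϖ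

include hρ hϖ in
theorem isRegular_LA : IsRegularLocalRing (LA ρ α) := by
  have hd := dvr_LV α
  let e : (LA ρ α ⧸ Ideal.span {algebraMap R[X] (LA ρ α) (C ϖ)}) ≃+* LV α :=
    (Ideal.quotEquivOfEq (ker_red ρ hρ hϖ α).symm).trans
      (RingHom.quotientKerEquivOfSurjective (red_surjective ρ α hρ))
  haveI : IsRegularLocalRing (LA ρ α ⧸ Ideal.span {algebraMap R[X] (LA ρ α) (C ϖ)}) :=
    IsRegularLocalRing.of_ringEquiv e.symm
  exact Groth.Agent.CalgA.RegBasic.of_quotient _ (pi_mem ρ hρ hϖ α)
    (mem_nonZeroDivisors_of_ne_zero (pi_ne_zero' ρ hϖ α))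

include hρ hϖ in
theorem dim_LA : ringKrullDim (LA ρ α) = 2 := by
  have hd := dvr_LV α
  let e : (LA ρ α ⧸ Ideal.span {algebraMap R[X] (LA ρ α) (C ϖ)}) ≃+* LV α :=
    (Ideal.quotEquivOfEq (ker_red ρ hρ hϖ α).symm).trans
      (RingHom.quotientKerEquivOfSurjective (red_surjective ρ α hρ))
  have h1 : ringKrullDim (LA ρ α ⧸ Ideal.span {algebraMap R[X] (LA ρ α) (C ϖ)}) + 1 =
      ringKrullDim (LA ρ α) := by
    refine ringKrullDim_quotient_span_singleton_succ_eq_ringKrullDim_of_mem_jacobson ?_ ?_
    · exact (isSMulRegular_iff_right_eq_zero_of_smul.2 fun y hy =>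
        (mul_eq_zero.1 hy).resolve_left (pi_ne_zero' ρ hϖ α))
    · rw [IsLocalRing.ringJacobson_eq_maximalIdeal]
      exact pi_mem ρ hρ hϖ α
  rw [← h1, ringKrullDim_eq_of_ringEquiv e,
    IsPrincipalIdealRing.ringKrullDim_eq_one _ (IsDiscreteValuationRing.not_isField _)]
  norm_num

end Line

end K760.Surf
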