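import Groth.Agent.CurvSt.K760.LDisc
import Groth.Agent.CurvSt.K760.Surf

/-!
# The reduction of the ring of integers is reduced, and its discriminant
-/

set_option autoImplicit false
set_option linter.style.haveILetI false

universe u

open Polynomial Module IsLocalRing
open scoped nonZeroDivisors Matrix

namespace K760.LRed

open Hurw Surf

section One

variable {k R K : Type u} [Field k] [CommRing R] [IsDomain R] [IsDiscreteValuationRing R] (ρ : R →+* k)
  (hρ : Function.Surjective ρ) {ϖ : R} (hϖ : maximalIdeal R = Ideal.span {ϖ}) (α : k)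
  [Field K] [Algebra R K] [IsFractionRing R K]

omit [IsDomain R] [IsDiscreteValuationRing R] in
theorem red_algebraMap (p : R[X]) : red ρ α (algebraMap R[X] (LA ρ α) p) = algebraMap k[X] (LV α) (p.map ρ) := by
  rw [red, Localization.localRingHom_to_map]
  rfl

theorem injective_LV : Function.Injective (algebraMap k[X] (LV α)) :=
  IsLocalization.injective (LV α) (Ideal.primeCompl_le_nonZeroDivisors (Ideal.span {(X - C α : k[X])}))

include hρ in
theorem map_ne_zero {p : R[X]} (hp : p.map (residue R) ≠ 0) : p.map ρ ≠ 0 := by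
  have h : (RingHom.ker ρ).IsMaximal := RingHom.ker_isMaximal_of_surjective ρ hρ
  have h1 : RingHom.ker ρ = maximalIdeal R := IsLocalRing.eq_maximalIdeal h
  intro h0
  apply hp
  ext n
  have h2 : ρ (p.coeff n) = 0 := by rw [← coeff_map, h0, coeff_zero]
  have h3 : p.coeff n ∈ maximalIdeal R := by rw [← h1]; exact h2
  rw [coeff_map, coeff_zero]
  exact (residue_eq_zero_iff _).2 h3

omit [IsDomain R] [IsDiscreteValuationRing R] in
theorem red_unit {p : R[X]} (hp : p ∈ (pr ρ α).primeCompl) : IsUnit (red ρ α (algebraMap R[X] (LA ρ α) p)) :=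
  (IsLocalization.map_units (LA ρ α) ⟨p, hp⟩).map _

variable {B E : Type u} [CommRing B] [IsDomain B] [Algebra K[X] B] [Field E] [Algebra B E] [IsFractionRing B E]
  [Algebra R[X] E] (hE : ∀ p : R[X], algebraMap R[X] E p = algebraMap B E (rx R K B p))

include hE in
omit [IsDomain R] [IsDiscreteValuationRing R] [IsFractionRing R K] [IsDomain B] in
/-- Elements integral over `R[x]` belong to `B`. -/
theorem exists_B [IsIntegrallyClosed B] (y : E) (hy : IsIntegral R[X] y) :
    ∃ y' : B, algebraMap B E y' = y ∧ (rx R K B).IsIntegralElem y' := by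
  letI : Algebra R[X] B := (rx R K B).toAlgebra
  haveI : IsScalarTower R[X] B E := IsScalarTower.of_algebraMap_eq hE
  obtain ⟨y', rfl⟩ := IsIntegrallyClosed.isIntegral_iff.1 (hy.tower_top (A := B))
  exact ⟨y', rfl, (isIntegral_algebraMap_iff (IsFractionRing.injective B E)).1 hy⟩

variable [Algebra (LA ρ α) E] [IsScalarTower R[X] (LA ρ α) E] {N : Type u} [CommRing N] [Algebra (LA ρ α) N]
  [Algebra N E] [IsScalarTower (LA ρ α) N E] [IsIntegralClosure N (LA ρ α) E]
  {M₀ : Type u} [CommRing M₀] [Algebra (LV α) M₀] [Module.Free (LV α) M₀] (mk : N →+* M₀)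

include hρ hE in
omit [IsFractionRing R K] [IsDomain B] in
/-- The reduction of the ring of integers is reduced. -/
theorem isReduced [IsIntegrallyClosed B] (hunr : Unr R K B ϖ) (hmk : Function.Surjective mk)
    (hker : RingHom.ker mk = Ideal.span {algebraMap (LA ρ α) N (algebraMap R[X] (LA ρ α) (C ϖ))})
    (hcomp : ∀ a : LA ρ α, mk (algebraMap (LA ρ α) N a) = algebraMap (LV α) M₀ (red ρ α a)) :
    IsReduced M₀ := by
  rcases subsingleton_or_nontrivial M₀ with hs | hn
  · exact ⟨fun x _ => Subsingleton.elim _ _⟩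
  rw [isReduced_iff_pow_one_lt 2 one_lt_two]
  intro z₀ hz₀
  obtain ⟨z, rfl⟩ := hmk z₀
  have h1 : z ^ 2 ∈ RingHom.ker mk := by rw [RingHom.mem_ker, map_pow, hz₀]
  rw [hker] at h1
  obtain ⟨w, hw⟩ := Ideal.mem_span_singleton'.1 h1
  have hN : Function.Injective (algebraMap N E) := IsIntegralClosure.algebraMap_injective N (LA ρ α) E
  have hint : ∀ x : N, IsIntegral (LA ρ α) (algebraMap N E x) := fun x =>
    (IsIntegralClosure.isIntegral_iff (A := N)).2 ⟨x, rfl⟩
  obtain ⟨s, hs⟩ := IsIntegral.exists_multiple_integral_of_isLocalization (pr ρ α).primeCompl _ (hint z)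
  obtain ⟨s', hs'⟩ := IsIntegral.exists_multiple_integral_of_isLocalization (pr ρ α).primeCompl _ (hint w)
  rw [Submonoid.smul_def, Algebra.smul_def] at hs hs'
  have hz₁ : IsIntegral R[X] (algebraMap R[X] E (s * s') * algebraMap N E z) := by
    rw [map_mul, mul_comm (algebraMap R[X] E s), mul_assoc]
    exact isIntegral_algebraMap.mul hs
  have hw₁ : IsIntegral R[X] (algebraMap R[X] E (s * s') ^ 2 * algebraMap N E w) := by
    have : algebraMap R[X] E (s * s') ^ 2 * algebraMap N E w =
        algebraMap R[X] E (s * s * s') * (algebraMap R[X] E s' * algebraMap N E w) := by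
      simp only [map_mul]
      ring
    rw [this]
    exact isIntegral_algebraMap.mul hs'
  obtain ⟨z₂, hz₂, hz₂'⟩ := exists_B hE _ hz₁
  obtain ⟨w₂, hw₂, hw₂'⟩ := exists_B hE _ hw₁
  have hBE : Function.Injective (algebraMap B E) := IsFractionRing.injective B E
  have hpi : algebraMap N E (algebraMap (LA ρ α) N (algebraMap R[X] (LA ρ α) (C ϖ))) =
      algebraMap R[X] E (C ϖ) := by
    rw [← IsScalarTower.algebraMap_apply (LA ρ α) N E, ← IsScalarTower.algebraMap_apply]
  have hrel : rx R K B 1 * z₂ ^ 2 = rx R K B (C ϖ) * w₂ := by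
    apply hBE
    rw [map_one, one_mul, map_pow, map_mul, hz₂, hw₂, ← hE, ← hpi, mul_pow, ← map_pow (algebraMap N E), ← hw,
      map_mul (algebraMap N E) w]
    ring
  obtain ⟨w', g', hw', hg', h3⟩ := hunr z₂ w₂ 1 hz₂' hw₂'
    (by rw [Polynomial.map_one]; exact one_ne_zero) hrel
  -- `w'` belongs to `N`
  have hw'' : IsIntegral (LA ρ α) (algebraMap B E w') := by
    letI : Algebra R[X] B := (rx R K B).toAlgebra
    haveI : IsScalarTower R[X] B E := IsScalarTower.of_algebraMap_eq hE
    have h4 : IsIntegral R[X] w' := hw'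
    have h5 : IsIntegral R[X] (algebraMap B E w') := h4.algebraMap
    exact h5.tower_top
  obtain ⟨w₃, hw₃⟩ := (IsIntegralClosure.isIntegral_iff (A := N)).1 hw''
  have h6 : algebraMap (LA ρ α) N (algebraMap R[X] (LA ρ α) (g' * (s * s'))) * z =
      algebraMap (LA ρ α) N (algebraMap R[X] (LA ρ α) (C ϖ)) * w₃ := by
    apply hN
    rw [map_mul (algebraMap N E), map_mul (algebraMap N E), hpi, hw₃, ← IsScalarTower.algebraMap_apply (LA ρ α) N E,
      ← IsScalarTower.algebraMap_apply, map_mul, mul_assoc, ← hz₂, hE, hE, ← map_mul, ← map_mul, h3]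
  have h7 : algebraMap (LV α) M₀ (red ρ α (algebraMap R[X] (LA ρ α) (g' * (s * s')))) * mk z = 0 := by
    rw [← hcomp, ← map_mul, h6, map_mul]
    have : algebraMap (LA ρ α) N (algebraMap R[X] (LA ρ α) (C ϖ)) ∈ RingHom.ker mk := by
      rw [hker]
      exact Ideal.subset_span rfl
    rw [RingHom.mem_ker.1 this, zero_mul]
  rw [← Algebra.smul_def] at h7
  have h8 : red ρ α (algebraMap R[X] (LA ρ α) (g' * (s * s'))) ≠ 0 := by
    rw [map_mul, map_mul]
    refine mul_ne_zero ?_ (red_unit ρ α (s * s').2).ne_zero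
    rw [red_algebraMap, Ne, map_eq_zero_iff _ (injective_LV α)]
    exact map_ne_zero ρ hρ hg'
  exact (smul_eq_zero.1 h7).resolve_left h8

end One

section Two

variable {k R K : Type u} [Field k] [CharZero k] [CommRing R] [IsDomain R] [IsDiscreteValuationRing R] (ρ : R →+* k)
  (hρ : Function.Surjective ρ) {ϖ : R} (hϖ : maximalIdeal R = Ideal.span {ϖ}) (α : k)
  [Field K] [Algebra R K] [IsFractionRing R K]

include hρ hϖ in
omit [CharZero k] in
theorem prime_pi : Prime (algebraMap R[X] (LA ρ α) (C ϖ)) := by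
  rw [← Ideal.span_singleton_prime (pi_ne_zero' ρ hϖ α), ← ker_red ρ hρ hϖ α]
  exact RingHom.ker_isPrime _

omit [CharZero k] in
theorem res_dvd (M₀ : Type u) [CommRing M₀] [Algebra (LV α) M₀] [Algebra k M₀]
    (hk₀ : ∀ c : k, algebraMap k M₀ c = algebraMap (LV α) M₀ (algebraMap k[X] (LV α) (C c))) (v : LV α) :
    algebraMap (LV α) M₀ (algebraMap k[X] (LV α) (X - C α)) ∣
      algebraMap (LV α) M₀ v - algebraMap k M₀ (Compare.res α (LV α) v) := by
  rw [hk₀, ← map_sub]
  refine map_dvd _ ?_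
  rw [← Ideal.mem_span_singleton, ← Compare.ker_res, RingHom.mem_ker, map_sub, Compare.res_algebraMap, eval_C,
    sub_self]

variable {B E F N : Type u} [CommRing B] [Algebra K[X] B] [Field F] [Algebra K[X] F]
  [IsFractionRing K[X] F] [Field E] [Algebra B E] [IsDomain B] [IsFractionRing B E] [Algebra F E] [Algebra K[X] E]
  [IsScalarTower K[X] B E] [IsScalarTower K[X] F E] [FiniteDimensional F E]
  [Algebra (LA ρ α) F] [IsFractionRing (LA ρ α) F]
  [Algebra (LA ρ α) E] [IsScalarTower (LA ρ α) F E] [CommRing N] [Algebra (LA ρ α) N] [Algebra N E]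
  [IsScalarTower (LA ρ α) N E] [IsIntegralClosure N (LA ρ α) E] [Module.Finite (LA ρ α) N]
  [Module.Free (LA ρ α) N]
  {M₀ : Type u} [CommRing M₀] [Algebra (LV α) M₀] [Algebra k M₀] (mk : N →+* M₀)

variable (E) in
include hρ hϖ E in
/-- The number of points of the special fibre. -/
theorem nil_le (hnil : DiscNilStmt.{u}) [IsReduced M₀] {r : ℕ} {b : Fin r → K} (hB : IsSimp K b B)
    (hA : ∀ p : R[X], algebraMap (LA ρ α) F (algebraMap R[X] (LA ρ α) p) =
      algebraMap K[X] F (p.map (algebraMap R K)))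
    (hmk : Function.Surjective mk)
    (hker : RingHom.ker mk = Ideal.span {algebraMap (LA ρ α) N (algebraMap R[X] (LA ρ α) (C ϖ))})
    (hcomp : ∀ a : LA ρ α, mk (algebraMap (LA ρ α) N a) = algebraMap (LV α) M₀ (red ρ α a))
    (hk₀ : ∀ c : k, algebraMap k M₀ c = algebraMap (LV α) M₀ (algebraMap k[X] (LV α) (C c))) :
    Module.Finite (LV α) M₀ ∧
    finrank k (nilradical (M₀ ⧸ Ideal.span {algebraMap (LV α) M₀ (algebraMap k[X] (LV α) (X - C α))})) ≤
      Nat.card {i // ∃ c : R, algebraMap R K c = b i ∧ ρ c = α} := by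
  classical
  haveI := hB.finite
  haveI := hB.free
  have hd : IsDiscreteValuationRing (LV α) := dvr_LV α
  let e := Module.Free.chooseBasis (LA ρ α) N
  obtain ⟨e', he', hr⟩ := QuotBasis.exists_basis (red ρ α) mk (red_surjective ρ α hρ) hmk hcomp
    (by rw [hker, ker_red ρ hρ hϖ α, Ideal.map_span, Set.image_singleton]) e
  haveI : Module.Finite (LV α) M₀ := Module.Finite.of_basis e'
  haveI : Module.Free (LV α) M₀ := Module.Free.of_basis e'
  refine ⟨inferInstance, ?_⟩
  haveI : CharZero k[X] := charZero_of_injective_algebraMap (R := k) (C_injective)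
  haveI : CharZero (LV α) := charZero_of_injective_algebraMap (injective_LV α)
  have hdisc : Algebra.discr (LV α) e' = red ρ α (Algebra.discr (LA ρ α) e) :=
    QuotBasis.discr_eq (red ρ α) mk e e' he' hr
  have hne : red ρ α (Algebra.discr (LA ρ α) e) ≠ 0 := by
    rw [← hdisc]
    exact LDisc.discr_ne_zero_of_isReduced e'
  have hndvd : ¬ algebraMap R[X] (LA ρ α) (C ϖ) ∣ Algebra.discr (LA ρ α) e := by
    intro h
    apply hne
    rw [← RingHom.mem_ker, ker_red ρ hρ hϖ α]
    exact Ideal.mem_span_singleton.2 h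
  obtain ⟨s, p, hs, hp, hdvd⟩ := LDisc.exists_dvd E (R := R) (F := F) (Module.Free.chooseBasis K[X] B) hB.disc hA e
  have hirr : Irreducible ϖ := (IsDiscreteValuationRing.irreducible_iff_uniformizer ϖ).2 hϖ
  obtain ⟨n, w, rfl⟩ := IsDiscreteValuationRing.eq_unit_mul_pow_irreducible hs hirr
  have hdvd' : Algebra.discr (LA ρ α) e ∣ algebraMap R[X] (LA ρ α) (∏ i, p i) := by
    apply LDisc.dvd_of_prime (prime_pi ρ hρ hϖ α) hndvd n
    have h1 : algebraMap R[X] (LA ρ α) (C (↑w * ϖ ^ n) * ∏ i, p i) =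
        algebraMap R[X] (LA ρ α) (C (w : R)) *
          (algebraMap R[X] (LA ρ α) (C ϖ) ^ n * algebraMap R[X] (LA ρ α) (∏ i, p i)) := by
      simp only [map_mul, map_pow]
      ring
    rw [h1] at hdvd
    have h2 : IsUnit (algebraMap R[X] (LA ρ α) (C (w : R))) := (w.isUnit.map C).map _
    exact (h2.dvd_mul_left).1 hdvd
  have hred : Algebra.discr (LV α) e' ∣ ∏ i, algebraMap k[X] (LV α) ((p i).map ρ) := by
    rw [hdisc, ← map_prod, ← Polynomial.map_prod, ← red_algebraMap]
    exact map_dvd _ hdvd'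
  let τ : LV α := algebraMap k[X] (LV α) (X - C α)
  let I : Finset (Fin r) := Finset.univ.filter fun i => ∃ c : R, algebraMap R K c = b i ∧ ρ c = α
  have hcard : Nat.card {i // ∃ c : R, algebraMap R K c = b i ∧ ρ c = α} = I.card := by
    rw [Nat.card_eq_fintype_card, Fintype.card_subtype]
  have hinjRK : Function.Injective (algebraMap R K) := IsFractionRing.injective R K
  have hI : ∀ i ∈ I, algebraMap k[X] (LV α) ((p i).map ρ) = τ := by
    intro i hi
    obtain ⟨c, hc, hcα⟩ := (Finset.mem_filter.1 hi).2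
    rcases hp i with ⟨c', hc', hp'⟩ | ⟨hc', -⟩
    · have : c' = c := hinjRK (by rw [hc', hc])
      subst this
      rw [hp', Polynomial.map_sub, map_X, map_C, hcα]
    · exact absurd hc (hc' c)
  have hI' : ∀ i ∉ I, IsUnit (algebraMap k[X] (LV α) ((p i).map ρ)) := by
    intro i hi
    rcases hp i with ⟨c, hc, hp'⟩ | ⟨-, c, hc, hp'⟩
    · have hcα : ρ c ≠ α := fun h => hi (Finset.mem_filter.2 ⟨Finset.mem_univ i, c, hc, h⟩)
      refine IsLocalization.map_units (LV α)
        (⟨(p i).map ρ, ?_⟩ : (Ideal.span {(X - C α : k[X])}).primeCompl)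
      intro h
      rw [SetLike.mem_coe, Ideal.mem_span_singleton, hp', Polynomial.map_sub, map_X, map_C, dvd_iff_isRoot, IsRoot.def] at h
      simp only [eval_sub, eval_X, eval_C] at h
      exact hcα (sub_eq_zero.1 h).symm
    · have hc0 : ρ c = 0 := by
        have h1 : c ∈ RingHom.ker ρ := by
          rw [ker_rho ρ hρ hϖ, ← hϖ]
          exact hc
        exact h1
      rw [hp', Polynomial.map_sub, Polynomial.map_mul, map_C, hc0, C_0, zero_mul, Polynomial.map_one, zero_sub, map_neg,
        map_one]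
      exact (isUnit_one (M := LV α)).neg
  have hpow : Algebra.discr (LV α) e' ∣ τ ^ I.card := by
    have h1 : ∏ i, algebraMap k[X] (LV α) ((p i).map ρ) =
        τ ^ I.card * ∏ i ∈ Iᶜ, algebraMap k[X] (LV α) ((p i).map ρ) := by
      rw [← Finset.prod_mul_prod_compl I, Finset.prod_congr rfl hI, Finset.prod_const]
    have h2 : IsUnit (∏ i ∈ Iᶜ, algebraMap k[X] (LV α) ((p i).map ρ)) := by
      rw [IsUnit.prod_iff]
      exact fun i hi => hI' i (Finset.mem_compl.1 hi)
    rw [h1] at hred
    exact (h2.dvd_mul_right).1 hred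
  -- the algebra modulo `τ`
  let J : Ideal M₀ := Ideal.span {algebraMap (LV α) M₀ τ}
  have h3 := hnil (LV α) τ k (Compare.res α (LV α)) (Compare.res_surjective α (LV α)) (Compare.ker_res α (LV α)) M₀
    (M₀ ⧸ J) (Ideal.Quotient.mk J) Ideal.Quotient.mk_surjective
    (fun a => by
      rw [IsScalarTower.algebraMap_apply k M₀ (M₀ ⧸ J), Ideal.Quotient.algebraMap_eq, Ideal.Quotient.eq,
        Ideal.mem_span_singleton]
      exact res_dvd α M₀ hk₀ a)
    (Ideal.mk_ker)
  have h4 : τ ^ finrank k (nilradical (M₀ ⧸ J)) ∣ τ ^ I.card :=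
    (h3.trans (SimpBasic.discr_dvd _ e')).trans hpow
  have hτ0 : τ ≠ 0 := by
    rw [Ne, map_eq_zero_iff _ (injective_LV α)]
    exact X_sub_C_ne_zero α
  have hτu : ¬ IsUnit τ := by
    intro h
    have h5 := h.map (Compare.res α (LV α))
    rw [Compare.res_algebraMap] at h5
    simp at h5
  rw [hcard]
  exact (pow_dvd_pow_iff hτ0 hτu).1 h4

end Two

end K760.LRed
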