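import Groth.Agent.CurvSt.K760.Surf
import Mathlib.RingTheory.DiscreteValuationRing.TFAE
import Mathlib.RingTheory.Localization.LocalizationLocalization

/-!
# Residue fields of discrete valuation rings of a finite extension
-/

set_option autoImplicit false
set_option linter.style.haveILetI false

universe u

open Polynomial Module IsLocalRing
open scoped nonZeroDivisors

namespace K760.ResSurj

/-- Every residue class of a valuation ring of a finite extension `E` of the fraction field of a Dedekind domain `W`
is represented by an element integral over `W`. -/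
theorem exists_integral (W F E : Type*) [CommRing W] [IsDedekindDomain W] [Field F] [Algebra W F]
    [IsFractionRing W F] [Field E] [Algebra F E] [Algebra W E] [IsScalarTower W F E] [FiniteDimensional F E]
    [Algebra.IsSeparable F E] (O : Type*) [CommRing O] [IsDomain O] [IsLocalRing O] [IsIntegrallyClosed O]
    [Algebra O E] [IsFractionRing O E] [Algebra W O] [IsScalarTower W O E]
    (hloc : ∃ w : W, w ≠ 0 ∧ algebraMap W O w ∈ maximalIdeal O) (o : O) :
    ∃ n : O, IsIntegral W (algebraMap O E n) ∧ residue O o = residue O n := by
  classical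
  let N := integralClosure W E
  haveI hN : IsDedekindDomain N := integralClosure.isDedekindDomain W F E
  have hinjO : Function.Injective (algebraMap O E) := IsFractionRing.injective O E
  -- the map `N → O`
  have hNO : ∀ n : N, ∃ y : O, algebraMap O E y = (n : E) := fun n => by
    have h1 : IsIntegral W (n : E) := n.2
    exact IsIntegrallyClosed.isIntegral_iff.1 (h1.tower_top (A := O))
  choose i hi using hNO
  let ι : N →+* O :=
    { toFun := i
      map_one' := hinjO (by rw [hi, map_one]; rfl)
      map_mul' := fun a b => hinjO (by rw [map_mul, hi, hi, hi]; rfl)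
      map_zero' := hinjO (by rw [hi, map_zero]; rfl)
      map_add' := fun a b => hinjO (by rw [map_add, hi, hi, hi]; rfl) }
  have hι : ∀ n : N, algebraMap O E (ι n) = (n : E) := hi
  let Q : Ideal N := (maximalIdeal O).comap ι
  haveI hQp : Q.IsPrime := Ideal.IsPrime.comap _
  have hWinj : Function.Injective (algebraMap W E) := by
    rw [IsScalarTower.algebraMap_eq W F E]
    exact (algebraMap F E).injective.comp (IsFractionRing.injective W F)
  have hQ0 : Q ≠ ⊥ := by
    obtain ⟨w, hw0, hw⟩ := hloc
    intro h
    have h1 : algebraMap W N w ∈ Q := by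
      change ι (algebraMap W N w) ∈ maximalIdeal O
      have : ι (algebraMap W N w) = algebraMap W O w := by
        apply hinjO
        rw [hι, ← IsScalarTower.algebraMap_apply]
        rfl
      rw [this]
      exact hw
    rw [h, Ideal.mem_bot] at h1
    apply hw0
    apply hWinj
    rw [map_zero]
    exact congrArg (fun z : N => (z : E)) h1
  haveI hQm : Q.IsMaximal := hQp.isMaximal hQ0
  let D := Localization.AtPrime Q
  haveI hD : IsDiscreteValuationRing D := IsLocalization.AtPrime.isDiscreteValuationRing_of_dedekind_domain N hQ0 D
  have hunit : ∀ y : Q.primeCompl, IsUnit (algebraMap N E y) := by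
    intro y
    rw [isUnit_iff_ne_zero]
    intro h
    have h0 : (y : N) = 0 := Subtype.val_injective h
    exact y.2 (by rw [h0]; exact Q.zero_mem)
  letI : Algebra D E := (IsLocalization.lift (M := Q.primeCompl) (S := D) hunit).toAlgebra
  haveI : IsScalarTower N D E := IsScalarTower.of_algebraMap_eq fun x => (IsLocalization.lift_eq hunit x).symm
  haveI : IsFractionRing N E := integralClosure.isFractionRing_of_finite_extension F E
  haveI : IsFractionRing D E :=
    IsFractionRing.isFractionRing_of_isDomain_of_isLocalization Q.primeCompl D E
  -- key computation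
  have key : ∀ a s : N, s ∉ Q → algebraMap O E o * (s : E) = (a : E) →
      ∃ n : O, IsIntegral W (algebraMap O E n) ∧ residue O o = residue O n := by
    intro a s hs h
    have h1 : o * ι s = ι a := hinjO (by rw [map_mul, hι, hι, h])
    obtain ⟨s', hs'⟩ := Ideal.Quotient.exists_inv (I := Q)
      (a := Ideal.Quotient.mk Q s) (fun h0 => hs (Ideal.Quotient.eq_zero_iff_mem.1 h0))
    obtain ⟨s', rfl⟩ := Ideal.Quotient.mk_surjective s'
    have h2 : s * s' - 1 ∈ Q := by
      rw [← Ideal.Quotient.eq_zero_iff_mem, map_sub, map_mul, hs', map_one, sub_self]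
    refine ⟨ι (a * s'), by rw [hι]; exact (a * s').2, ?_⟩
    have h3 : residue O (ι (s * s')) = 1 := by
      have : ι (s * s' - 1) ∈ maximalIdeal O := h2
      rw [map_sub, map_one, ← residue_eq_zero_iff, map_sub, map_one, sub_eq_zero] at this
      exact this
    rw [map_mul ι, ← h1, mul_assoc, ← map_mul ι, map_mul (residue O), h3, mul_one]
  rcases ValuationRing.isInteger_or_isInteger D (algebraMap O E o) with ⟨x, hx⟩ | ⟨x, hx⟩
  · obtain ⟨a, s, rfl⟩ := IsLocalization.exists_mk'_eq Q.primeCompl x
    refine key a s s.2 ?_
    rw [← hx]
    have := congrArg (algebraMap D E) (IsLocalization.mk'_spec D a s)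
    rw [map_mul, ← IsScalarTower.algebraMap_apply, ← IsScalarTower.algebraMap_apply] at this
    exact this
  · rcases eq_or_ne o 0 with rfl | ho
    · exact ⟨0, by rw [map_zero]; exact isIntegral_zero, rfl⟩
    · obtain ⟨a, s, rfl⟩ := IsLocalization.exists_mk'_eq Q.primeCompl x
      have ho' : algebraMap O E o ≠ 0 := fun h => ho (hinjO (by rw [h, map_zero]))
      have h1 := congrArg (algebraMap D E) (IsLocalization.mk'_spec D a s)
      rw [map_mul, ← IsScalarTower.algebraMap_apply, ← IsScalarTower.algebraMap_apply, hx] at h1
      have h2 : algebraMap O E o * (a : E) = ((s : N) : E) := by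
        have h3 : (algebraMap O E o)⁻¹ * ((s : N) : E) = (a : E) := h1
        rw [← h3, mul_inv_cancel_left₀ ho']
      refine key s a ?_ h2
      intro ha
      have h4 : o * ι a = ι s := hinjO (by rw [map_mul, hι, hι, h2])
      have h5 : ι s ∈ maximalIdeal O := by
        rw [← h4]
        exact Ideal.mul_mem_left _ _ ha
      exact s.2 h5

end K760.ResSurj
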