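import Groth.Agent.CurvSt.K760.LRed
import Groth.Agent.CurvSt.K760.ResSurj

/-!
# The map from the ring of integers to the residue field
-/

set_option autoImplicit false
set_option linter.style.haveILetI false

universe u

open Polynomial Module IsLocalRing
open scoped nonZeroDivisors Matrix

namespace K760.LVal

open Hurw Surf LRed

section Basic

variable {k R : Type u} [Field k] [CommRing R] [IsDomain R] [IsDiscreteValuationRing R] [Algebra k R]
  (ρ : R →ₐ[k] k) (α : k) {O : Type u} [CommRing O] [IsLocalRing O] [Algebra k O] [Algebra R O]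
  [IsScalarTower k R O] (hO : (maximalIdeal R).map (algebraMap R O) ≤ maximalIdeal O) (u : O)
  (hu : Transcendental k (residue O u))

/-- Evaluation at `u`. -/
noncomputable def ev (R : Type u) [CommRing R] [Algebra R O] (u : O) : R[X] →+* O := eval₂RingHom (algebraMap R O) u

include hO in
theorem residue_ev (p : R[X]) : residue O (ev R u p) = aeval (residue O u) (p.map ρ.toRingHom) := by
  have h : (residue O).comp (ev R u) =
      (aeval (R := k) (residue O u)).toRingHom.comp (mapRingHom ρ.toRingHom) := by
    refine Polynomial.ringHom_ext (fun a => ?_) ?_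
    · simp only [ev, RingHom.comp_apply, coe_eval₂RingHom, eval₂_C, coe_mapRingHom, map_C, AlgHom.toRingHom_eq_coe,
        RingHom.coe_coe, aeval_C]
      have h1 : a - algebraMap k R (ρ a) ∈ maximalIdeal R := by
        have h3 : (RingHom.ker ρ.toRingHom).IsMaximal :=
          RingHom.ker_isMaximal_of_surjective ρ.toRingHom fun c => ⟨algebraMap k R c, ρ.commutes c⟩
        rw [← IsLocalRing.eq_maximalIdeal h3, RingHom.mem_ker]
        change ρ (a - algebraMap k R (ρ a)) = 0
        rw [map_sub, ρ.commutes]
        exact sub_self _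
      have h2 : algebraMap R O (a - algebraMap k R (ρ a)) ∈ maximalIdeal O := hO (Ideal.mem_map_of_mem _ h1)
      rw [map_sub, ← IsScalarTower.algebraMap_apply, ← residue_eq_zero_iff, map_sub, sub_eq_zero] at h2
      rw [h2]
      rfl
    · simp [ev]
  exact congrArg (fun f : R[X] →+* ResidueField O => f p) h

theorem aeval_ne_zero {p : k[X]} (hu : Transcendental k (residue O u)) (hp : p ≠ 0) :
    aeval (residue O u) p ≠ 0 := fun h => hu ⟨p, hp, h⟩

/-- The map `LV → κ`. -/
noncomputable def th (hu : Transcendental k (residue O u)) : LV α →+* ResidueField O :=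
  IsLocalization.lift (M := (Ideal.span {(X - C α : k[X])}).primeCompl)
    (g := (aeval (R := k) (residue O u)).toRingHom)
    (fun p => isUnit_iff_ne_zero.2 (aeval_ne_zero u hu fun h => p.2 (by rw [h]; exact Ideal.zero_mem _)))

theorem th_algebraMap (p : k[X]) : th α u hu (algebraMap k[X] (LV α) p) = aeval (residue O u) p :=
  IsLocalization.lift_eq _ p

theorem isUnit_ev' (hO : (maximalIdeal R).map (algebraMap R O) ≤ maximalIdeal O)
    (hu : Transcendental k (residue O u)) {p : R[X]} (hp : p.map ρ.toRingHom ≠ 0) : IsUnit (ev R u p) := by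
  by_contra h
  have h1 : residue O (ev R u p) = 0 := (residue_eq_zero_iff _).2 ((mem_maximalIdeal _).2 h)
  rw [residue_ev ρ hO u] at h1
  exact aeval_ne_zero u hu hp h1

theorem isUnit_ev (hO : (maximalIdeal R).map (algebraMap R O) ≤ maximalIdeal O)
    (hu : Transcendental k (residue O u)) (p : (pr ρ.toRingHom α).primeCompl) : IsUnit (ev R u p) := by
  refine isUnit_ev' ρ u hO hu ?_
  intro h2
  apply p.2
  change mapRingHom ρ.toRingHom p ∈ Ideal.span {(X - C α : k[X])}
  rw [coe_mapRingHom, h2]
  exact Ideal.zero_mem _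

/-- The map `LA → O`. -/
noncomputable def chi (hO : (maximalIdeal R).map (algebraMap R O) ≤ maximalIdeal O)
    (hu : Transcendental k (residue O u)) : LA ρ.toRingHom α →+* O :=
  IsLocalization.lift (M := (pr ρ.toRingHom α).primeCompl) (g := ev R u) (isUnit_ev ρ α u hO hu)

theorem chi_algebraMap (p : R[X]) : chi ρ α u hO hu (algebraMap R[X] (LA ρ.toRingHom α) p) = ev R u p :=
  IsLocalization.lift_eq _ p

theorem residue_chi (a : LA ρ.toRingHom α) :
    residue O (chi ρ α u hO hu a) = th α u hu (red ρ.toRingHom α a) := by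
  have h : (residue O).comp (chi ρ α u hO hu) = (th α u hu).comp (red ρ.toRingHom α) := by
    refine IsLocalization.ringHom_ext (pr ρ.toRingHom α).primeCompl ?_
    refine RingHom.ext fun p => ?_
    rw [RingHom.comp_apply, RingHom.comp_apply, RingHom.comp_apply, RingHom.comp_apply, chi_algebraMap,
      red_algebraMap, th_algebraMap, residue_ev ρ hO u]
  exact congrArg (fun f : LA ρ.toRingHom α →+* ResidueField O => f a) h

variable {K B E : Type u} [Field K] [Algebra R K] [IsFractionRing R K] [CommRing B] [IsDomain B] [Algebra K[X] B]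
  [Field E] [Algebra B E] [Algebra O E]
  (hRO : ∀ a : R, algebraMap O E (algebraMap R O a) =
        algebraMap B E (algebraMap K[X] B (C (algebraMap R K a))))
  (hx : algebraMap O E u = algebraMap B E (algebraMap K[X] B X))

include hRO hx in
omit [IsDomain R] [IsDiscreteValuationRing R] [IsLocalRing O] [IsFractionRing R K] [IsDomain B] in
theorem algebraMap_ev (p : R[X]) : algebraMap O E (ev R u p) = algebraMap B E (rx R K B p) := by
  have h : (algebraMap O E).comp (ev R u) = (algebraMap B E).comp (rx R K B) := by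
    refine Polynomial.ringHom_ext (fun a => ?_) ?_
    · simp [ev, rx, hRO]
    · simp [ev, rx, hx]
  exact congrArg (fun f : R[X] →+* E => f p) h

variable [Algebra R[X] E] (hE : ∀ p : R[X], algebraMap R[X] E p = algebraMap B E (rx R K B p))
  [Algebra (LA ρ.toRingHom α) E] [IsScalarTower R[X] (LA ρ.toRingHom α) E]

include hRO hx hE in
omit [IsFractionRing R K] [IsDomain B] in
theorem algebraMap_chi (a : LA ρ.toRingHom α) :
    algebraMap O E (chi ρ α u hO hu a) = algebraMap (LA ρ.toRingHom α) E a := by
  have h : (algebraMap O E).comp (chi ρ α u hO hu) = algebraMap (LA ρ.toRingHom α) E := by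
    refine IsLocalization.ringHom_ext (pr ρ.toRingHom α).primeCompl ?_
    refine RingHom.ext fun p => ?_
    rw [RingHom.comp_apply, RingHom.comp_apply, RingHom.comp_apply, chi_algebraMap,
      algebraMap_ev u hRO hx, ← hE, ← IsScalarTower.algebraMap_apply]
  exact congrArg (fun f : LA ρ.toRingHom α →+* E => f a) h

variable [IsIntegrallyClosed O] [IsFractionRing O E]
  {N : Type u} [CommRing N] [Algebra (LA ρ.toRingHom α) N]
  [Algebra N E] [IsScalarTower (LA ρ.toRingHom α) N E] [IsIntegralClosure N (LA ρ.toRingHom α) E]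

include hRO hx hE hO hu in
omit [IsFractionRing R K] [IsDomain B] in
/-- The map `N → O`. -/
theorem exists_nu : ∃ ν : N →+* O, (∀ n : N, algebraMap O E (ν n) = algebraMap N E n) ∧
    ∀ a : LA ρ.toRingHom α, ν (algebraMap (LA ρ.toRingHom α) N a) = chi ρ α u hO hu a := by
  have hinjO : Function.Injective (algebraMap O E) := IsFractionRing.injective O E
  letI : Algebra (LA ρ.toRingHom α) O := (chi ρ α u hO hu).toAlgebra
  haveI : IsScalarTower (LA ρ.toRingHom α) O E := IsScalarTower.of_algebraMap_eq fun a =>
    (algebraMap_chi ρ α hO u hu hRO hx hE a).symm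
  have hNO : ∀ n : N, ∃ y : O, algebraMap O E y = algebraMap N E n := fun n => by
    have h1 : IsIntegral (LA ρ.toRingHom α) (algebraMap N E n) :=
      (IsIntegralClosure.isIntegral_iff (A := N)).2 ⟨n, rfl⟩
    exact IsIntegrallyClosed.isIntegral_iff.1 (h1.tower_top (A := O))
  choose i hi using hNO
  let ν : N →+* O :=
    { toFun := i
      map_one' := hinjO (by rw [hi, map_one, map_one])
      map_mul' := fun a b => hinjO (by rw [map_mul, hi, hi, hi, map_mul])
      map_zero' := hinjO (by rw [hi, map_zero, map_zero])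
      map_add' := fun a b => hinjO (by rw [map_add, hi, hi, hi, map_add]) }
  refine ⟨ν, hi, fun a => hinjO ?_⟩
  rw [show algebraMap O E (ν (algebraMap (LA ρ.toRingHom α) N a)) =
    algebraMap N E (algebraMap (LA ρ.toRingHom α) N a) from hi _, ← IsScalarTower.algebraMap_apply,
    algebraMap_chi ρ α hO u hu hRO hx hE]

end Basic

section Gauss

variable {k R : Type u} [Field k] [CommRing R] [IsDomain R] [IsDiscreteValuationRing R] (ρ : R →+* k)
  (hρ : Function.Surjective ρ) {ϖ : R} (hϖ : maximalIdeal R = Ideal.span {ϖ})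

/-- The generic point of the special fibre. -/
noncomputable abbrev PW : Ideal R[X] := RingHom.ker (mapRingHom ρ)

instance : (PW ρ).IsPrime := RingHom.ker_isPrime _

/-- The Gauss valuation ring. -/
noncomputable abbrev LW : Type _ := Localization.AtPrime (PW ρ)

include hρ hϖ in
theorem dedekind_LW : IsDedekindDomain (LW ρ) := by
  have h : (maximalIdeal (LW ρ)).IsPrincipal := by
    have h1 : maximalIdeal (LW ρ) = Ideal.span {algebraMap R[X] (LW ρ) (C ϖ)} := by
      have h2 : (PW ρ).map (algebraMap R[X] (LW ρ)) = Ideal.span {algebraMap R[X] (LW ρ) (C ϖ)} := by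
        refine (congrArg (Ideal.map (algebraMap R[X] (LW ρ))) (ker_mapRingHom ρ hρ hϖ)).trans ?_
        rw [Ideal.map_span, Set.image_singleton]
      rw [← h2]
      exact Localization.AtPrime.map_eq_maximalIdeal.symm
    rw [h1]
    exact ⟨⟨_, rfl⟩⟩
  exact ((tfae_of_isNoetherianRing_of_isLocalRing_of_isDomain (LW ρ)).out 4 2).1 h

end Gauss

section Frac

variable {k R : Type u} [Field k] [CommRing R] [IsDomain R] [IsDiscreteValuationRing R] [Algebra k R]
  (ρ : R →ₐ[k] k) {ϖ : R} (hϖ : maximalIdeal R = Ideal.span {ϖ})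
  {O : Type u} [CommRing O] [IsDomain O] [IsLocalRing O] [IsIntegrallyClosed O] [Algebra k O] [Algebra R O]
  [IsScalarTower k R O] (hO : (maximalIdeal R).map (algebraMap R O) ≤ maximalIdeal O) (u : O)
  (hu : Transcendental k (residue O u))
  {F E : Type u} [Field F] [Algebra R[X] F] [IsFractionRing R[X] F] [Field E] [Algebra F E] [Algebra R[X] E]
  [IsScalarTower R[X] F E] [FiniteDimensional F E] [Algebra.IsSeparable F E] [Algebra O E] [IsFractionRing O E]

omit [IsDomain R] [IsDiscreteValuationRing R] in
theorem rho_surjective : Function.Surjective ρ.toRingHom := fun c => ⟨algebraMap k R c, ρ.commutes c⟩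

variable (F) in
include hϖ hO hu F in
/-- Representation of the residue classes. -/
theorem exists_n (hev : ∀ p : R[X], algebraMap O E (ev R u p) = algebraMap R[X] E p) (o : O) :
    ∃ (n : O) (s : R[X]), s.map ρ.toRingHom ≠ 0 ∧
      IsIntegral R[X] (algebraMap R[X] E s * algebraMap O E n) ∧ residue O o = residue O n := by
  have hρ := rho_surjective ρ
  haveI := dedekind_LW ρ.toRingHom hρ hϖ
  have hinjF : Function.Injective (algebraMap R[X] F) := IsFractionRing.injective R[X] F
  have hmem : ∀ p : (PW ρ.toRingHom).primeCompl, (p : R[X]).map ρ.toRingHom ≠ 0 := fun p h => p.2 h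
  have hunitF : ∀ p : (PW ρ.toRingHom).primeCompl, IsUnit (algebraMap R[X] F p) := by
    intro p
    rw [isUnit_iff_ne_zero, Ne, map_eq_zero_iff _ hinjF]
    intro h0
    apply hmem p
    rw [h0, Polynomial.map_zero]
  have hunitO : ∀ p : (PW ρ.toRingHom).primeCompl, IsUnit (ev R u p) := fun p =>
    isUnit_ev' ρ u hO hu (hmem p)
  letI : Algebra (LW ρ.toRingHom) F :=
    (IsLocalization.lift (M := (PW ρ.toRingHom).primeCompl) (S := LW ρ.toRingHom) hunitF).toAlgebra
  haveI : IsScalarTower R[X] (LW ρ.toRingHom) F :=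
    IsScalarTower.of_algebraMap_eq fun x => (IsLocalization.lift_eq hunitF x).symm
  haveI : IsFractionRing (LW ρ.toRingHom) F :=
    IsFractionRing.isFractionRing_of_isDomain_of_isLocalization (PW ρ.toRingHom).primeCompl
      (LW ρ.toRingHom) F
  letI : Algebra (LW ρ.toRingHom) E := ((algebraMap F E).comp (algebraMap (LW ρ.toRingHom) F)).toAlgebra
  haveI : IsScalarTower (LW ρ.toRingHom) F E := IsScalarTower.of_algebraMap_eq fun _ => rfl
  haveI : IsScalarTower R[X] (LW ρ.toRingHom) E := IsScalarTower.of_algebraMap_eq fun x => by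
    rw [IsScalarTower.algebraMap_apply (LW ρ.toRingHom) F E, ← IsScalarTower.algebraMap_apply R[X] (LW ρ.toRingHom) F,
      ← IsScalarTower.algebraMap_apply]
  letI : Algebra (LW ρ.toRingHom) O :=
    (IsLocalization.lift (M := (PW ρ.toRingHom).primeCompl) (S := LW ρ.toRingHom) hunitO).toAlgebra
  have hWO : ∀ p : R[X], algebraMap (LW ρ.toRingHom) O (algebraMap R[X] (LW ρ.toRingHom) p) = ev R u p :=
    fun p => IsLocalization.lift_eq hunitO p
  haveI : IsScalarTower (LW ρ.toRingHom) O E := by
    refine IsScalarTower.of_algebraMap_eq' ?_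
    refine IsLocalization.ringHom_ext (PW ρ.toRingHom).primeCompl ?_
    refine RingHom.ext fun p => ?_
    rw [RingHom.comp_apply, RingHom.comp_apply, RingHom.comp_apply, hWO, hev,
      ← IsScalarTower.algebraMap_apply]
  have hpi0 : algebraMap R[X] (LW ρ.toRingHom) (C ϖ) ≠ 0 := by
    rw [Ne, IsLocalization.to_map_eq_zero_iff (LW ρ.toRingHom)
      (Ideal.primeCompl_le_nonZeroDivisors (PW ρ.toRingHom)), C_eq_zero]
    exact pi_ne_zero hϖ
  obtain ⟨n, hn, hon⟩ := ResSurj.exists_integral (LW ρ.toRingHom) F E O
    ⟨algebraMap R[X] (LW ρ.toRingHom) (C ϖ), hpi0, by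
      rw [hWO, ev, coe_eval₂RingHom, eval₂_C]
      refine hO (Ideal.mem_map_of_mem _ ?_)
      rw [hϖ]
      exact Ideal.subset_span rfl⟩ o
  obtain ⟨s, hs⟩ := IsIntegral.exists_multiple_integral_of_isLocalization (PW ρ.toRingHom).primeCompl _ hn
  rw [Submonoid.smul_def, Algebra.smul_def] at hs
  exact ⟨n, s, hmem s, hs, hon⟩

end Frac

end K760.LVal
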