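import Groth.Agent.CurvSt.K760.SimpBasic
import Groth.Agent.CurvSt.K950.HurwDesc
import Groth.Agent.CurvSt.K950.HurwRing
import Groth.Agent.CurvSt.K361.AffPull

/-!
# Base change of simple covers
-/

set_option autoImplicit false

universe u

open CategoryTheory CategoryTheory.Limits AlgebraicGeometry Polynomial TensorProduct

namespace K760.SimpBC

open Hurw

section

attribute [local instance] Polynomial.algebra

theorem isSimp (K L : Type u) [Field K] [Field L] [Algebra K L] {r : ℕ} (b : Fin r → K)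
    (B : Type u) [CommRing B] [Algebra K[X] B] (B' : Type u) [CommRing B'] [Algebra L[X] B']
    (θ : B →+* B')
    (h : IsPushout (CommRingCat.ofHom (Polynomial.mapRingHom (algebraMap K L)))
      (CommRingCat.ofHom (algebraMap K[X] B)) (CommRingCat.ofHom (algebraMap L[X] B')) (CommRingCat.ofHom θ))
    (hs : IsSimp K b B) : IsSimp L (fun i => algebraMap K L (b i)) B' := by
  classical
  let _ : Algebra B B' := θ.toAlgebra
  let _ : Algebra K[X] B' := ((algebraMap L[X] B').comp (algebraMap K[X] L[X])).toAlgebra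
  have ht1 : IsScalarTower K[X] L[X] B' := IsScalarTower.of_algebraMap_eq' rfl
  have ht2 : IsScalarTower K[X] B B' := IsScalarTower.of_algebraMap_eq' (congrArg (fun t => t.hom) h.w)
  have hp : Algebra.IsPushout K[X] L[X] B B' := CommRingCat.isPushout_iff_isPushout.mp h
  have hfr' := hs.free
  have hfi' := hs.finite
  let e : L[X] ⊗[K[X]] B ≃ₐ[L[X]] B' := Algebra.IsPushout.equiv K[X] L[X] B B'
  let bB := Module.Free.chooseBasis K[X] B
  have h1 := K950.HurwDesc.discr_baseChange bB L[X]
  have h2 : Algebra.discr L[X] ((bB.baseChange L[X]).map e.toLinearEquiv) =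
      Algebra.discr L[X] (bB.baseChange L[X]) := by
    rw [Algebra.discr_eq_discr_of_algEquiv _ e]
    congr 1
  refine IsSimp.of_basis (fun i j hij => hs.inj ((algebraMap K L).injective hij))
    ((bB.baseChange L[X]).map e.toLinearEquiv) ?_
  rw [h2, h1]
  have h5 := map_dvd (algebraMap K[X] L[X]) hs.disc
  have h6 : algebraMap K[X] L[X] (∏ i, (X - C (b i))) = ∏ i, (X - C (algebraMap K L (b i))) := by
    change (∏ i, (X - C (b i))).map (algebraMap K L) = _
    rw [Polynomial.map_prod]
    simp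
  rwa [h6] at h5

end

theorem simpOn {R K L : Type u} [CommRing R] [IsDomain R] [Field K] [Algebra R K] [Field L] [Algebra K L]
    (φ : R →+* L) (hφ : ∀ x, φ x = algebraMap K L (algebraMap R K x)) {𝒳 Z : Scheme.{u}}
    (Φ : 𝒳 ⟶ CohB1.ProjSpace 1 R) [IsAffineHom Φ] (n : CohB1.ProjSpace 1 L ⟶ CohB1.ProjSpace 1 R)
    (hn0 : Spec.map (CommRingCat.ofHom (Polynomial.mapRingHom φ)) ≫ v0 R = v0 L ≫ n)
    (Φ' : Z ⟶ CohB1.ProjSpace 1 L) (c : Z ⟶ 𝒳) (hc : IsPullback c Φ' Φ n) {r : ℕ} (b : Fin r → K)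
    (h : ∀ (B : Type u) [CommRing B] [Algebra K[X] B] (j : Spec (CommRingCat.of B) ⟶ 𝒳),
        IsPullback j (Spec.map (CommRingCat.ofHom (algebraMap K[X] B))) Φ
          (Spec.map (CommRingCat.ofHom (Polynomial.mapRingHom (algebraMap R K))) ≫ v0 R) → IsSimp K b B) :
    SimpOn L Φ' (fun i => algebraMap K L (b i)) := by
  intro B' _ _ j' hj'
  obtain ⟨B, _, _, j, hj⟩ := K361.AffPull.exists_isPullback Φ
    (Spec.map (CommRingCat.ofHom (Polynomial.mapRingHom (algebraMap R K))) ≫ v0 R)
  have h1 := hj'.paste_horiz hc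
  have h2 : v0 L ≫ n = Spec.map (CommRingCat.ofHom (Polynomial.mapRingHom (algebraMap K L))) ≫
      Spec.map (CommRingCat.ofHom (Polynomial.mapRingHom (algebraMap R K))) ≫ v0 R := by
    rw [← hn0, ← Category.assoc, ← Spec.map_comp, ← CommRingCat.ofHom_comp, Polynomial.mapRingHom_comp]
    congr 3
    congr 1
    exact RingHom.ext hφ
  rw [h2] at h1
  have h3 : IsPullback (hj.lift _ _ (h1.w.trans (Category.assoc _ _ _).symm)) _ _ _ :=
    IsPullback.of_right (by rw [hj.lift_fst]; exact h1) (hj.lift_snd _ _ _) hj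
  let t : Spec (CommRingCat.of B') ⟶ Spec (CommRingCat.of B) :=
    hj.lift _ _ (h1.w.trans (Category.assoc _ _ _).symm)
  let θ : CommRingCat.of B ⟶ CommRingCat.of B' := Spec.preimage t
  have hθ : Spec.map θ = t := Spec.map_preimage _
  have h4 : IsPullback (Spec.map θ) (Spec.map (CommRingCat.ofHom (algebraMap L[X] B')))
      (Spec.map (CommRingCat.ofHom (algebraMap K[X] B)))
      (Spec.map (CommRingCat.ofHom (Polynomial.mapRingHom (algebraMap K L)))) := by
    rw [hθ]
    exact h3
  have h5 := K950.HurwRing.isPushout_of_spec h4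
  exact isSimp K L b B B' θ.hom h5.flip (h B j hj)

end K760.SimpBC
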