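import Groth.Agent.CurvSt.K760.Iface2
import Mathlib.RingTheory.DedekindDomain.IntegralClosure
import Mathlib.RingTheory.Algebraic.Integral
import Mathlib.RingTheory.Localization.NormTrace

/-!
# Finite free algebras with squarefree discriminant
-/

set_option autoImplicit false
set_option linter.style.haveILetI false

universe u

open Polynomial Module
open scoped nonZeroDivisors Matrix

namespace K760.SimpBasic

section Discr

variable {V B : Type*} [CommRing V] [CommRing B] [Algebra V B] {ι ι' : Type*} [Fintype ι] [DecidableEq ι]
  [Fintype ι'] [DecidableEq ι']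

/-- Discriminant of a family expressed in a basis. -/
theorem discr_eq_sq_mul (e : Basis ι V B) (f : ι → B) :
    Algebra.discr V f = (e.toMatrix f).det ^ 2 * Algebra.discr V e := by
  conv_lhs => rw [← e.toMatrix_map_vecMul f]
  rw [Algebra.discr_of_matrix_vecMul]

/-- Discriminants of two bases divide each other. -/
theorem discr_dvd (e : Basis ι V B) (f : Basis ι' V B) : Algebra.discr V e ∣ Algebra.discr V f := by
  rcases subsingleton_or_nontrivial V with h | h
  · exact ⟨1, Subsingleton.elim _ _⟩
  let g := f.reindex (f.indexEquiv e)
  have h1 : Algebra.discr V g = Algebra.discr V f := by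
    rw [Basis.coe_reindex]
    exact Algebra.discr_reindex V f (f.indexEquiv e)
  rw [← h1, discr_eq_sq_mul e g]
  exact ⟨_, mul_comm _ _⟩

theorem associated_discr (e : Basis ι V B) (f : Basis ι' V B) [IsDomain V] :
    Associated (Algebra.discr V e) (Algebra.discr V f) :=
  associated_of_dvd_dvd (discr_dvd e f) (discr_dvd f e)

end Discr

section Normal

variable (V B F E : Type*) [CommRing V] [IsDomain V] [IsPrincipalIdealRing V] [CommRing B] [IsDomain B]
  [Algebra V B] [Module.Finite V B] [FaithfulSMul V B] [Field F] [Algebra V F] [IsFractionRing V F]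
  [Field E] [Algebra B E] [IsFractionRing B E] [Algebra V E] [IsScalarTower V B E] [Algebra F E]
  [IsScalarTower V F E] {ι : Type*} [Fintype ι] [DecidableEq ι]

/-- A finite free domain over a principal ideal domain with squarefree discriminant is integrally closed. -/
theorem mem_range_of_squarefree [CharZero F] (f : Basis ι V B) (hD : Squarefree (Algebra.discr V f)) (y : E)
    (hy : IsIntegral V y) : y ∈ (algebraMap B E).range := by
  have hBint : Algebra.IsIntegral V B := Algebra.IsIntegral.of_finite V B
  have hloc : IsLocalization (Algebra.algebraMapSubmonoid B V⁰) E := inferInstance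
  let fE : Basis ι F E := f.localizationLocalization F V⁰ E
  have hfin : FiniteDimensional F E := Module.Finite.of_basis fE
  let N := integralClosure V E
  have : IsTorsionFree V E := .trans_faithfulSMul V F E
  have hNfree : Module.Free V N := IsIntegralClosure.module_free V F E N
  have hNfin : Module.Finite V N := IsIntegralClosure.finite V F E N
  have : IsLocalization (Algebra.algebraMapSubmonoid N V⁰) E := IsIntegralClosure.isLocalization V F E N
  let g := Module.Free.chooseBasis V N
  let gE := g.localizationLocalization F V⁰ E
  let e0 : Module.Free.ChooseBasisIndex V N ≃ ι := gE.indexEquiv fE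
  let g' : Basis ι V N := g.reindex e0
  let gE' : Basis ι F E := gE.reindex e0
  have hgE' : ∀ i, gE' i = (g' i : E) := by
    intro i
    simp only [gE', g', gE, Basis.reindex_apply, Basis.localizationLocalization_apply]
    rfl
  -- `B` as a subset of `N`
  have hBN : ∀ x : B, IsIntegral V (algebraMap B E x) := fun x =>
    (Algebra.IsIntegral.isIntegral (R := V) x).algebraMap
  let j : B → N := fun x => ⟨algebraMap B E x, hBN x⟩
  let P : Matrix ι ι V := g'.toMatrix (fun i => j (f i))
  have hP : ∀ i, algebraMap B E (f i) = ∑ l, algebraMap V E (P l i) * (g' l : E) := by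
    intro i
    have h := g'.sum_repr (j (f i))
    have h2 := congrArg (fun z : N => (z : E)) h
    simp only [AddSubmonoidClass.coe_finsetSum] at h2
    rw [show algebraMap B E (f i) = ((j (f i) : N) : E) from rfl, ← h2]
    refine Finset.sum_congr rfl fun l _ => ?_
    simp [P, Basis.toMatrix_apply, Algebra.smul_def]
  have hdisc : algebraMap V F (Algebra.discr V f) =
      algebraMap V F (P.det) ^ 2 * algebraMap V F (Algebra.discr V g') := by
    have h1 : algebraMap V F (Algebra.discr V f) = Algebra.discr F fE :=
      (Algebra.discr_localizationLocalization V V⁰ E f).symm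
    have h2 : Algebra.discr F gE' = algebraMap V F (Algebra.discr V g') := by
      have h3 : Algebra.discr F gE' = Algebra.discr F gE := by
        rw [Basis.coe_reindex]
        exact Algebra.discr_reindex F gE e0
      have h4 : Algebra.discr V g' = Algebra.discr V g := by
        rw [Basis.coe_reindex]
        exact Algebra.discr_reindex V g e0
      rw [h3, h4]
      exact Algebra.discr_localizationLocalization V V⁰ E g
    have h5 : (fun i => fE i) = (fun i => gE' i) ᵥ* (P.map (algebraMap V F)).map (algebraMap F E) := by
      funext i
      rw [Matrix.vecMul, dotProduct]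
      simp only [fE, Basis.localizationLocalization_apply, hgE']
      rw [hP i]
      refine Finset.sum_congr rfl fun l _ => ?_
      rw [Matrix.map_apply, Matrix.map_apply, ← IsScalarTower.algebraMap_apply, mul_comm]
    rw [h1, show Algebra.discr F fE = Algebra.discr F (fun i => fE i) from rfl, h5,
      Algebra.discr_of_matrix_vecMul, h2, ← RingHom.mapMatrix_apply, ← RingHom.map_det]
  have hdisc' : Algebra.discr V f = P.det ^ 2 * Algebra.discr V g' := by
    apply IsFractionRing.injective V F
    rw [hdisc, map_mul, map_pow]
  have hunit : IsUnit P.det := hD P.det (by rw [hdisc', pow_two]; exact dvd_mul_right _ _)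
  -- express the basis of `N` through the one of `B`
  have hinv : ∀ l, (g' l : E) ∈ (algebraMap B E).range := by
    intro l
    have h6 : (g' l : E) = ∑ i, algebraMap V E (P⁻¹ i l) * algebraMap B E (f i) := by
      have h7 : ∑ i, algebraMap V E (P⁻¹ i l) * algebraMap B E (f i) =
          ∑ m, algebraMap V E ((P * P⁻¹) m l) * (g' m : E) := by
        simp_rw [hP, Finset.mul_sum]
        rw [Finset.sum_comm]
        refine Finset.sum_congr rfl fun m _ => ?_
        rw [Matrix.mul_apply, map_sum, Finset.sum_mul]
        refine Finset.sum_congr rfl fun i _ => ?_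
        rw [map_mul]
        ring
      rw [h7, Matrix.mul_nonsing_inv _ hunit, Finset.sum_eq_single l]
      · simp
      · intro m _ hm
        rw [Matrix.one_apply_ne hm]
        simp
      · simp
    rw [h6]
    refine sum_mem fun i _ => mul_mem ?_ ⟨_, rfl⟩
    rw [IsScalarTower.algebraMap_apply V B E]
    exact ⟨_, rfl⟩
  have h8 : (⟨y, hy⟩ : N) = ∑ l, (g'.repr ⟨y, hy⟩ l) • g' l := (g'.sum_repr _).symm
  have h9 : y = ∑ l, algebraMap V E (g'.repr ⟨y, hy⟩ l) * (g' l : E) := by
    have := congrArg (fun z : N => (z : E)) h8
    simpa [Algebra.smul_def] using this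
  rw [h9]
  refine sum_mem fun l _ => mul_mem ?_ (hinv l)
  rw [IsScalarTower.algebraMap_apply V B E]
  exact ⟨_, rfl⟩

end Normal

section Simp

open Hurw

variable {K : Type u} [Field K] {r : ℕ} {b : Fin r → K} {B : Type u} [CommRing B] [Algebra K[X] B]

theorem squarefree_prod (hb : Function.Injective b) : Squarefree (∏ i, (X - C (b i)) : K[X]) :=
  (Polynomial.separable_prod_X_sub_C_iff.2 hb).squarefree

theorem _root_.K760.Hurw.IsSimp.squarefree (h : IsSimp K b B) :
    letI := h.free
    letI := h.finite
    Squarefree (Algebra.discr K[X] (Module.Free.chooseBasis K[X] B)) :=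
  Squarefree.squarefree_of_dvd h.disc (squarefree_prod h.inj)

/-- The discriminant of any basis divides the product of the `x - b i`. -/
theorem _root_.K760.Hurw.IsSimp.discr_dvd (h : IsSimp K b B) {ι : Type*} [Fintype ι] [DecidableEq ι]
    (e : Basis ι K[X] B) : Algebra.discr K[X] e ∣ ∏ i, (X - C (b i)) := by
  have := h.free
  have := h.finite
  exact (SimpBasic.discr_dvd e (Module.Free.chooseBasis K[X] B)).trans h.disc

/-- A criterion through any basis. -/
theorem _root_.K760.Hurw.IsSimp.of_basis (hinj : Function.Injective b) {ι : Type*} [Fintype ι] [DecidableEq ι]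
    (e : Basis ι K[X] B) (he : Algebra.discr K[X] e ∣ ∏ i, (X - C (b i))) : IsSimp K b B := by
  have h1 : Module.Finite K[X] B := Module.Finite.of_basis e
  have h2 : Module.Free K[X] B := Module.Free.of_basis e
  exact ⟨hinj, h1, h2, (SimpBasic.discr_dvd (Module.Free.chooseBasis K[X] B) e).trans he⟩

/-- A simple cover which is a domain is integrally closed (characteristic zero). -/
theorem _root_.K760.Hurw.IsSimp.isIntegrallyClosed [CharZero K] [IsDomain B] (h : IsSimp K b B) :
    IsIntegrallyClosed B := by
  have := h.free
  have := h.finite
  have hsm : FaithfulSMul K[X] B := by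
    rw [faithfulSMul_iff_algebraMap_injective]
    have hnt : Nontrivial B := inferInstance
    exact (Module.isTorsionFree_iff_algebraMap_injective).1 inferInstance
  letI : Algebra (FractionRing K[X]) (FractionRing B) := FractionRing.liftAlgebra K[X] (FractionRing B)
  have : IsScalarTower K[X] (FractionRing K[X]) (FractionRing B) :=
    FractionRing.isScalarTower_liftAlgebra K[X] (FractionRing B)
  have hc : CharZero (FractionRing K[X]) := by
    have := algebraRat.charZero (FractionRing K[X])
    infer_instance
  refine (isIntegrallyClosed_iff (FractionRing B)).2 fun {y} hy => ?_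
  have hy' : IsIntegral K[X] y := by
    have hBint : Algebra.IsIntegral K[X] B := Algebra.IsIntegral.of_finite K[X] B
    exact isIntegral_trans y hy
  exact mem_range_of_squarefree K[X] B (FractionRing K[X]) (FractionRing B)
    (Module.Free.chooseBasis K[X] B) h.squarefree y hy'

end Simp

end K760.SimpBasic
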